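import Cfsg.Agent.Lib.Spor.RuLat.Model

/-!
The checks on the data.
-/

set_option autoImplicit false
set_option maxRecDepth 100000
set_option maxHeartbeats 0

namespace CfsgLib.Spor.RuLat

open Cfsg.Spor

/-- An image of a generator under a map is the given combination, modulo four. -/
def imageOK (f : V → V) (r : List ℕ) (cs : List ℕ) : Bool :=
  let l := lin cs rows
  decide (∀ p : RuIdx, f (toV r) p = toV l p)

theorem imgI_ok : ((List.range rows.length).all fun i => imageOK mI (rows.getD i []) (coI.getD i [])) = true := by
  decide +kernel

theorem imgJ_ok : ((List.range rows.length).all fun i => imageOK mJ (rows.getD i []) (coJ.getD i [])) = true := by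
  decide +kernel

theorem imgK_ok : ((List.range rows.length).all fun i => imageOK mK (rows.getD i []) (coK.getD i [])) = true := by
  decide +kernel

theorem imgSign_ok :
    ((List.range rows.length).all fun i => imageOK mSign (rows.getD i []) (coSign.getD i [])) = true := by
  decide +kernel

theorem imgShift_ok :
    ((List.range rows.length).all fun i => imageOK mShift (rows.getD i []) (coShift.getD i [])) = true := by
  decide +kernel

/-- The defining vectors are combinations. -/
def tableOK : Bool :=
  Nat.beq ruTable.length 20 && (List.range 20).all fun i =>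
    let l := lin (tabCo.getD i []) rows
    decide (∀ p : RuIdx, red (ruTable.getD i 0) p = toV l p)

theorem table_ok : tableOK = true := by decide +kernel

/-- A product of two lists. -/
def dotL : List ℕ → List ℕ → ℕ
  | x :: u, y :: v => x * y + dotL u v
  | _, _ => 0

/-- All residues. -/
def res4 : List ℕ := [0, 1, 2, 3]

/-- Residues with odd sum. -/
def bitA (a b : ℕ) : Bool := Nat.beq ((a + b) % 2) 1

/-- Residues with odd second entry. -/
def bitB (_ b : ℕ) : Bool := Nat.beq (b % 2) 1

/-- Residues with sum two modulo four. -/
def bitC (a b : ℕ) : Bool := Nat.beq ((a + b) % 4) 2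

/-- All residues are allowed. -/
def domA (_ _ : ℕ) : Bool := true

/-- Residues with even sum. -/
def domB (a b : ℕ) : Bool := Nat.beq ((a + b) % 2) 0

/-- Even residues. -/
def domC (a b : ℕ) : Bool := Nat.beq (a % 2) 0 && Nat.beq (b % 2) 0

/-- A member gives a parity check on bits. -/
def parOK (dom bit : ℕ → ℕ → Bool) (h : List Bool) (g : List ℕ) : Bool :=
  (List.range 28).all fun i => res4.all fun a => res4.all fun b => !dom a b ||
    Nat.beq ((g.getD (2 * i) 0 * a + g.getD (2 * i + 1) 0 * b) % 4)
      (if bit a b && h.getD i false then 2 else 0)

/-- All members of a family give parity checks, and are in the span. -/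
def famOK (dom bit : ℕ → ℕ → Bool) (fam : List (List Bool × List ℕ × List ℕ)) : Bool :=
  fam.all fun e => parOK dom bit e.1 e.2.1 && same (lin e.2.2 rows) e.2.1 && Nat.ble e.1.length 28

theorem parA_ok : famOK domA bitA parA = true := by decide +kernel

theorem parB_ok : famOK domB bitB parB = true := by decide +kernel

theorem parC_ok : famOK domC bitC parC = true := by decide +kernel

/-- A word is obstructed: on its support the member adds a fixed amount, and these amounts do not cancel. -/
def wordOK (cand : List (ℕ × ℕ)) (s : List Bool) (g : List ℕ) : Bool :=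
  let v := fun i => if s.getD i false then
      (g.getD (2 * i) 0 * (cand.headD (0, 0)).1 + g.getD (2 * i + 1) 0 * (cand.headD (0, 0)).2) % 4 else 0
  ((List.range 28).all fun i => !s.getD i false ||
    cand.all fun c => Nat.beq ((g.getD (2 * i) 0 * c.1 + g.getD (2 * i + 1) 0 * c.2) % 4) (v i)) &&
  !Nat.beq (((List.range 28).map v).sum % 4) 0

/-- The residues of units. -/
def candA : List (ℕ × ℕ) := [(1, 0), (3, 0), (0, 1), (0, 3)]

/-- The residues of the multiples of 1 + i by units. -/
def candB : List (ℕ × ℕ) := [(1, 1), (1, 3), (3, 1), (3, 3)]

/-- All words of a family are obstructed by members of the span. -/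
def wordsOK (cand : List (ℕ × ℕ)) (fam : List (List Bool × List ℕ × List ℕ)) : Bool :=
  fam.all fun e => wordOK cand e.1 e.2.1 && same (lin e.2.2 rows) e.2.1

theorem wordsA_ok : wordsOK candA wordsA = true := by decide +kernel

theorem wordsB_ok : wordsOK candB wordsB = true := by decide +kernel

theorem points_ok : Nat.beq points.length 28 && ((List.range 28).all fun i =>
    same (lin (points.getD i ([], [])).2 rows) (points.getD i ([], [])).1 &&
    Nat.beq ((2 * (points.getD i ([], [])).1.getD (2 * i) 0 + 2 * (points.getD i ([], [])).1.getD (2 * i + 1) 0) % 4)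
      2) = true := by
  decide +kernel

/-- The parity of a check on a prefix. -/
def par : List Bool → List Bool → Bool
  | x :: h, y :: p => xor (x && y) (par h p)
  | _, _ => false

/-- The number of set bits. -/
def wt : List Bool → ℕ
  | [] => 0
  | x :: l => (if x then 1 else 0) + wt l

/-- Search of all prefixes within the weight that pass the checks ending there. -/
def dfs (hs : List (List Bool)) (w : ℕ) (good : List (List Bool)) : ℕ → List Bool → Bool
  | 0, p => !Nat.ble (wt p) w || (hs.any fun h => Nat.beq h.length p.length && par h p) ||
      Nat.beq (wt p) 0 || good.contains p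
  | n + 1, p => !Nat.ble (wt p) w || (hs.any fun h => Nat.beq h.length p.length && par h p) ||
      (dfs hs w good n (p ++ [false]) && dfs hs w good n (p ++ [true]))

theorem dfsA_ok : dfs (parA.map Prod.fst) 8 (wordsA.map Prod.fst) 28 [] = true := by decide +kernel

theorem dfsB_ok : dfs (parB.map Prod.fst) 4 (wordsB.map Prod.fst) 28 [] = true := by decide +kernel

theorem dfsC_ok : dfs (parC.map Prod.fst) 2 [] 28 [] = true := by decide +kernel

theorem rows_dot : (rows.all fun r => rows.all fun s => Nat.beq (dotL r s % 4) 0) = true := by decide +kernel

theorem rows_norm : (rows.all fun r => Nat.beq r.length 56) = true := by decide +kernel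

end CfsgLib.Spor.RuLat
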