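/-!
Generators modulo four for the Rudvalis lattice, and members of the span used as obstructions, found by a computer
search.
-/

set_option autoImplicit false
set_option maxRecDepth 100000

namespace CfsgLib.Spor.RuLat

/-- Generators modulo four. -/
def rows : List (List Nat) := [
  [1, 0, 1, 0, 1, 0, 1, 0, 1, 0, 0, 0, 0, 0, 3, 0, 1, 0, 3, 0, 0, 0, 0, 0, 0, 0, 0, 0, 3, 0, 1, 0, 1, 0, 0, 0, 3, 0, 0, 0, 0, 0, 3, 0, 1, 0, 0, 0, 0, 0, 1, 0, 0, 0, 3, 0],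
  [0, 1, 3, 0, 3, 0, 3, 0, 0, 0, 0, 0, 0, 0, 0, 0, 0, 0, 0, 0, 0, 0, 0, 0, 3, 0, 3, 0, 0, 3, 1, 0, 0, 0, 0, 0, 0, 0, 0, 0, 3, 0, 0, 3, 1, 0, 3, 0, 3, 0, 1, 0, 3, 0, 0, 3],
  [0, 0, 1, 1, 2, 0, 0, 0, 0, 0, 0, 1, 3, 0, 0, 0, 0, 3, 0, 1, 0, 0, 0, 0, 1, 0, 1, 0, 1, 1, 0, 0, 0, 0, 0, 1, 0, 0, 1, 0, 1, 3, 0, 1, 3, 0, 0, 0, 1, 1, 3, 0, 0, 0, 0, 1],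
  [0, 0, 0, 1, 1, 0, 2, 0, 0, 0, 3, 1, 3, 0, 1, 0, 3, 3, 1, 1, 3, 0, 1, 0, 2, 0, 1, 0, 1, 1, 3, 0, 3, 0, 3, 1, 2, 0, 1, 0, 1, 3, 2, 1, 2, 0, 3, 0, 2, 1, 3, 0, 1, 0, 2, 1],
  [0, 0, 0, 0, 1, 1, 2, 0, 0, 0, 1, 0, 0, 1, 0, 0, 0, 0, 0, 0, 0, 1, 3, 0, 1, 3, 0, 0, 0, 1, 3, 0, 0, 3, 0, 0, 0, 1, 0, 0, 1, 1, 0, 1, 3, 0, 0, 0, 1, 0, 0, 0, 1, 0, 1, 1],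
  [0, 0, 0, 0, 0, 1, 3, 0, 3, 0, 3, 0, 3, 1, 0, 0, 2, 0, 3, 0, 1, 1, 1, 0, 3, 3, 1, 0, 2, 1, 2, 0, 1, 3, 3, 0, 1, 1, 3, 0, 2, 1, 2, 3, 3, 0, 3, 0, 0, 0, 3, 0, 1, 0, 1, 3],
  [0, 0, 0, 0, 0, 0, 1, 1, 1, 0, 2, 0, 0, 0, 3, 0, 1, 0, 3, 0, 1, 1, 3, 3, 2, 0, 3, 3, 0, 3, 3, 0, 2, 0, 1, 0, 2, 0, 0, 3, 3, 0, 3, 3, 2, 0, 1, 0, 3, 0, 2, 0, 1, 0, 1, 3],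
  [0, 0, 0, 0, 0, 0, 0, 2, 2, 0, 2, 0, 0, 0, 0, 0, 0, 0, 1, 1, 3, 3, 0, 2, 0, 0, 0, 2, 0, 0, 0, 0, 1, 3, 3, 1, 2, 2, 0, 2, 3, 2, 0, 1, 3, 0, 3, 0, 1, 0, 3, 0, 1, 0, 2, 1],
  [0, 0, 0, 0, 0, 0, 0, 0, 1, 0, 1, 0, 0, 3, 3, 0, 1, 0, 3, 0, 1, 0, 0, 3, 1, 0, 0, 3, 3, 0, 1, 0, 1, 0, 0, 3, 3, 0, 1, 0, 1, 0, 3, 0, 1, 0, 0, 3, 1, 0, 1, 0, 0, 3, 3, 0],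
  [0, 0, 0, 0, 0, 0, 0, 0, 0, 1, 3, 0, 0, 1, 0, 3, 3, 0, 3, 0, 3, 0, 0, 1, 3, 0, 2, 1, 0, 3, 2, 1, 0, 0, 0, 2, 0, 0, 2, 0, 2, 0, 0, 2, 2, 0, 0, 2, 3, 0, 3, 0, 2, 1, 3, 2],
  [0, 0, 0, 0, 0, 0, 0, 0, 0, 0, 1, 1, 3, 3, 0, 0, 0, 0, 0, 0, 1, 1, 3, 3, 1, 1, 3, 3, 0, 0, 0, 0, 0, 0, 3, 3, 0, 0, 1, 1, 1, 1, 0, 0, 0, 0, 3, 3, 1, 1, 0, 0, 3, 3, 0, 0],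
  [0, 0, 0, 0, 0, 0, 0, 0, 0, 0, 0, 2, 2, 2, 0, 0, 0, 0, 0, 0, 3, 3, 3, 1, 2, 2, 0, 0, 0, 0, 2, 0, 0, 3, 2, 1, 0, 3, 3, 2, 3, 2, 0, 1, 2, 3, 2, 1, 3, 1, 0, 0, 3, 1, 0, 2],
  [0, 0, 0, 0, 0, 0, 0, 0, 0, 0, 0, 0, 1, 1, 3, 1, 0, 0, 3, 1, 3, 1, 0, 0, 0, 3, 0, 1, 0, 3, 1, 0, 1, 2, 2, 3, 1, 0, 1, 0, 3, 2, 1, 0, 3, 2, 2, 3, 1, 0, 1, 0, 1, 0, 2, 3],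
  [0, 0, 0, 0, 0, 0, 0, 0, 0, 0, 0, 0, 0, 2, 0, 0, 1, 0, 3, 0, 3, 0, 0, 1, 2, 0, 2, 0, 0, 2, 0, 0, 1, 3, 0, 0, 3, 3, 2, 0, 2, 0, 3, 3, 3, 3, 2, 0, 3, 0, 3, 0, 0, 1, 3, 2],
  [0, 0, 0, 0, 0, 0, 0, 0, 0, 0, 0, 0, 0, 0, 2, 0, 3, 3, 1, 1, 0, 0, 0, 0, 0, 0, 2, 0, 2, 0, 2, 0, 3, 0, 3, 0, 1, 0, 0, 1, 0, 1, 1, 2, 1, 0, 3, 0, 0, 0, 3, 1, 2, 0, 1, 1],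
  [0, 0, 0, 0, 0, 0, 0, 0, 0, 0, 0, 0, 0, 0, 0, 2, 1, 0, 1, 0, 3, 0, 0, 3, 0, 0, 2, 0, 0, 0, 0, 0, 0, 0, 3, 3, 0, 0, 1, 3, 1, 1, 0, 0, 2, 0, 3, 3, 1, 0, 3, 0, 0, 1, 1, 2],
  [0, 0, 0, 0, 0, 0, 0, 0, 0, 0, 0, 0, 0, 0, 0, 0, 1, 0, 1, 0, 0, 3, 1, 0, 0, 0, 0, 0, 0, 2, 2, 0, 0, 3, 1, 0, 0, 1, 0, 3, 0, 3, 0, 1, 0, 1, 3, 0, 0, 3, 3, 0, 3, 0, 1, 0],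
  [0, 0, 0, 0, 0, 0, 0, 0, 0, 0, 0, 0, 0, 0, 0, 0, 0, 1, 2, 3, 1, 0, 2, 3, 0, 0, 0, 0, 0, 2, 2, 0, 0, 1, 3, 2, 2, 3, 0, 1, 0, 1, 2, 3, 0, 3, 1, 2, 1, 2, 2, 1, 2, 3, 2, 3],
  [0, 0, 0, 0, 0, 0, 0, 0, 0, 0, 0, 0, 0, 0, 0, 0, 0, 0, 1, 1, 0, 0, 3, 1, 3, 1, 3, 1, 1, 1, 1, 1, 0, 1, 0, 1, 1, 2, 2, 1, 3, 3, 1, 3, 2, 2, 2, 2, 2, 3, 3, 0, 0, 1, 2, 1],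
  [0, 0, 0, 0, 0, 0, 0, 0, 0, 0, 0, 0, 0, 0, 0, 0, 0, 0, 0, 2, 0, 0, 0, 2, 0, 0, 0, 0, 0, 0, 0, 0, 2, 0, 0, 0, 0, 0, 2, 0, 0, 0, 0, 0, 2, 0, 0, 2, 0, 0, 0, 0, 0, 2, 0, 2],
  [0, 0, 0, 0, 0, 0, 0, 0, 0, 0, 0, 0, 0, 0, 0, 0, 0, 0, 0, 0, 2, 0, 2, 0, 2, 0, 2, 2, 2, 2, 2, 0, 1, 3, 3, 3, 3, 3, 3, 3, 3, 3, 3, 3, 3, 3, 1, 3, 2, 0, 0, 2, 2, 0, 2, 0],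
  [0, 0, 0, 0, 0, 0, 0, 0, 0, 0, 0, 0, 0, 0, 0, 0, 0, 0, 0, 0, 0, 2, 2, 0, 0, 0, 0, 0, 0, 2, 2, 0, 1, 1, 3, 1, 3, 3, 1, 1, 1, 1, 3, 3, 1, 3, 1, 1, 0, 0, 2, 0, 2, 0, 0, 0],
  [0, 0, 0, 0, 0, 0, 0, 0, 0, 0, 0, 0, 0, 0, 0, 0, 0, 0, 0, 0, 0, 0, 2, 2, 0, 2, 0, 0, 0, 2, 2, 2, 2, 2, 2, 2, 2, 0, 2, 0, 2, 0, 2, 0, 0, 0, 2, 2, 0, 2, 2, 2, 2, 2, 2, 0],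
  [0, 0, 0, 0, 0, 0, 0, 0, 0, 0, 0, 0, 0, 0, 0, 0, 0, 0, 0, 0, 0, 0, 0, 0, 0, 0, 0, 0, 0, 0, 0, 0, 2, 0, 0, 2, 2, 0, 2, 0, 2, 0, 0, 2, 0, 2, 0, 2, 0, 2, 0, 2, 2, 0, 0, 2],
  [0, 0, 0, 0, 0, 0, 0, 0, 0, 0, 0, 0, 0, 0, 0, 0, 0, 0, 0, 0, 0, 0, 0, 0, 1, 1, 3, 1, 3, 3, 3, 3, 0, 0, 0, 0, 0, 0, 0, 0, 0, 0, 0, 2, 2, 0, 0, 0, 1, 3, 1, 1, 1, 1, 3, 3],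
  [0, 0, 0, 0, 0, 0, 0, 0, 0, 0, 0, 0, 0, 0, 0, 0, 0, 0, 0, 0, 0, 0, 0, 0, 0, 2, 2, 0, 2, 2, 2, 2, 1, 3, 3, 3, 3, 3, 3, 3, 3, 1, 3, 3, 1, 3, 1, 3, 2, 2, 2, 2, 2, 2, 2, 2],
  [0, 0, 0, 0, 0, 0, 0, 0, 0, 0, 0, 0, 0, 0, 0, 0, 0, 0, 0, 0, 0, 0, 0, 0, 0, 0, 2, 2, 0, 0, 0, 0, 1, 3, 3, 3, 3, 3, 3, 3, 2, 2, 2, 2, 2, 0, 0, 2, 3, 3, 1, 1, 3, 1, 3, 3],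
  [0, 0, 0, 0, 0, 0, 0, 0, 0, 0, 0, 0, 0, 0, 0, 0, 0, 0, 0, 0, 0, 0, 0, 0, 0, 0, 0, 2, 2, 2, 0, 2, 2, 0, 2, 2, 0, 0, 2, 0, 2, 2, 0, 0, 0, 0, 2, 2, 0, 0, 2, 2, 2, 2, 2, 2],
  [0, 0, 0, 0, 0, 0, 0, 0, 0, 0, 0, 0, 0, 0, 0, 0, 0, 0, 0, 0, 0, 0, 0, 0, 0, 0, 0, 0, 2, 0, 0, 2, 2, 2, 2, 2, 2, 2, 2, 2, 3, 1, 3, 3, 1, 1, 3, 3, 3, 3, 3, 3, 1, 3, 3, 3],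
  [0, 0, 0, 0, 0, 0, 0, 0, 0, 0, 0, 0, 0, 0, 0, 0, 0, 0, 0, 0, 0, 0, 0, 0, 0, 0, 0, 0, 0, 2, 0, 2, 1, 3, 1, 1, 1, 1, 3, 3, 3, 3, 1, 3, 1, 1, 1, 1, 0, 0, 0, 0, 0, 0, 0, 0],
  [0, 0, 0, 0, 0, 0, 0, 0, 0, 0, 0, 0, 0, 0, 0, 0, 0, 0, 0, 0, 0, 0, 0, 0, 0, 0, 0, 0, 0, 0, 2, 2, 3, 1, 3, 3, 3, 3, 1, 1, 2, 0, 2, 0, 0, 0, 0, 0, 1, 1, 3, 3, 3, 1, 3, 3],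
  [0, 0, 0, 0, 0, 0, 0, 0, 0, 0, 0, 0, 0, 0, 0, 0, 0, 0, 0, 0, 0, 0, 0, 0, 0, 0, 0, 0, 0, 0, 0, 0, 3, 3, 1, 1, 1, 1, 1, 3, 2, 0, 0, 2, 0, 0, 2, 2, 3, 3, 1, 1, 3, 3, 3, 1],
  [0, 0, 0, 0, 0, 0, 0, 0, 0, 0, 0, 0, 0, 0, 0, 0, 0, 0, 0, 0, 0, 0, 0, 0, 0, 0, 0, 0, 0, 0, 0, 0, 1, 1, 1, 1, 1, 1, 3, 1, 0, 2, 2, 0, 2, 2, 0, 0, 3, 3, 1, 1, 1, 1, 1, 3],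
  [0, 0, 0, 0, 0, 0, 0, 0, 0, 0, 0, 0, 0, 0, 0, 0, 0, 0, 0, 0, 0, 0, 0, 0, 0, 0, 0, 0, 0, 0, 0, 0, 0, 2, 0, 2, 2, 0, 0, 2, 0, 2, 2, 0, 2, 0, 2, 0, 0, 2, 0, 2, 0, 2, 2, 0],
  [0, 0, 0, 0, 0, 0, 0, 0, 0, 0, 0, 0, 0, 0, 0, 0, 0, 0, 0, 0, 0, 0, 0, 0, 0, 0, 0, 0, 0, 0, 0, 0, 0, 0, 2, 2, 2, 2, 0, 0, 0, 0, 0, 0, 2, 2, 2, 2, 0, 2, 2, 0, 2, 0, 2, 0],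
  [0, 0, 0, 0, 0, 0, 0, 0, 0, 0, 0, 0, 0, 0, 0, 0, 0, 0, 0, 0, 0, 0, 0, 0, 0, 0, 0, 0, 0, 0, 0, 0, 0, 0, 0, 0, 0, 0, 0, 0, 0, 0, 0, 0, 2, 2, 2, 2, 0, 2, 2, 0, 0, 2, 0, 2],
  [0, 0, 0, 0, 0, 0, 0, 0, 0, 0, 0, 0, 0, 0, 0, 0, 0, 0, 0, 0, 0, 0, 0, 0, 0, 0, 0, 0, 0, 0, 0, 0, 0, 0, 0, 0, 2, 2, 2, 2, 0, 2, 2, 0, 2, 0, 2, 0, 0, 2, 2, 0, 0, 2, 0, 2],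
  [0, 0, 0, 0, 0, 0, 0, 0, 0, 0, 0, 0, 0, 0, 0, 0, 0, 0, 0, 0, 0, 0, 0, 0, 0, 0, 0, 0, 0, 0, 0, 0, 0, 0, 0, 0, 0, 2, 0, 2, 1, 3, 1, 1, 3, 3, 1, 1, 3, 1, 3, 3, 1, 3, 1, 3],
  [0, 0, 0, 0, 0, 0, 0, 0, 0, 0, 0, 0, 0, 0, 0, 0, 0, 0, 0, 0, 0, 0, 0, 0, 0, 0, 0, 0, 0, 0, 0, 0, 0, 0, 0, 0, 0, 0, 0, 0, 2, 2, 2, 2, 0, 0, 0, 0, 2, 0, 0, 2, 2, 0, 2, 0],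
  [0, 0, 0, 0, 0, 0, 0, 0, 0, 0, 0, 0, 0, 0, 0, 0, 0, 0, 0, 0, 0, 0, 0, 0, 0, 0, 0, 0, 0, 0, 0, 0, 0, 0, 0, 0, 0, 0, 0, 0, 2, 2, 2, 2, 2, 2, 2, 2, 0, 0, 0, 0, 0, 0, 0, 0],
  [0, 0, 0, 0, 0, 0, 0, 0, 0, 0, 0, 0, 0, 0, 0, 0, 0, 0, 0, 0, 0, 0, 0, 0, 0, 0, 0, 0, 0, 0, 0, 0, 0, 0, 0, 0, 0, 0, 0, 0, 2, 2, 2, 2, 2, 2, 2, 2, 0, 0, 0, 0, 0, 0, 0, 0],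
  [0, 0, 0, 0, 0, 0, 0, 0, 0, 0, 0, 0, 0, 0, 0, 0, 0, 0, 0, 0, 0, 0, 0, 0, 0, 0, 0, 0, 0, 0, 0, 0, 0, 0, 0, 0, 0, 0, 0, 0, 0, 2, 0, 2, 2, 0, 0, 2, 0, 0, 0, 0, 2, 2, 2, 2],
  [0, 0, 0, 0, 0, 0, 0, 0, 0, 0, 0, 0, 0, 0, 0, 0, 0, 0, 0, 0, 0, 0, 0, 0, 0, 0, 0, 0, 0, 0, 0, 0, 0, 0, 0, 0, 0, 0, 0, 0, 0, 0, 2, 2, 2, 2, 0, 0, 2, 0, 2, 0, 0, 2, 2, 0],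
  [0, 0, 0, 0, 0, 0, 0, 0, 0, 0, 0, 0, 0, 0, 0, 0, 0, 0, 0, 0, 0, 0, 0, 0, 0, 0, 0, 0, 0, 0, 0, 0, 0, 0, 0, 0, 0, 0, 0, 0, 0, 0, 0, 0, 2, 2, 2, 2, 0, 2, 2, 0, 0, 2, 0, 2],
  [0, 0, 0, 0, 0, 0, 0, 0, 0, 0, 0, 0, 0, 0, 0, 0, 0, 0, 0, 0, 0, 0, 0, 0, 0, 0, 0, 0, 0, 0, 0, 0, 0, 0, 0, 0, 0, 0, 0, 0, 0, 0, 0, 0, 2, 2, 2, 2, 2, 0, 0, 2, 2, 0, 2, 0],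
  [0, 0, 0, 0, 0, 0, 0, 0, 0, 0, 0, 0, 0, 0, 0, 0, 0, 0, 0, 0, 0, 0, 0, 0, 0, 0, 0, 0, 0, 0, 0, 0, 0, 0, 0, 0, 0, 0, 0, 0, 0, 0, 0, 0, 0, 0, 0, 0, 2, 2, 2, 2, 2, 2, 2, 2],
  [0, 0, 0, 0, 0, 0, 0, 0, 0, 0, 0, 0, 0, 0, 0, 0, 0, 0, 0, 0, 0, 0, 0, 0, 0, 0, 0, 0, 0, 0, 0, 0, 0, 0, 0, 0, 0, 0, 0, 0, 0, 0, 0, 0, 0, 0, 0, 0, 2, 2, 2, 2, 2, 2, 2, 2],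
  [0, 0, 0, 0, 0, 0, 0, 0, 0, 0, 0, 0, 0, 0, 0, 0, 0, 0, 0, 0, 0, 0, 0, 0, 0, 0, 0, 0, 0, 0, 0, 0, 0, 0, 0, 0, 0, 0, 0, 0, 0, 0, 0, 0, 0, 0, 0, 0, 2, 2, 2, 2, 2, 2, 2, 2],
  [0, 0, 0, 0, 0, 0, 0, 0, 0, 0, 0, 0, 0, 0, 0, 0, 0, 0, 0, 0, 0, 0, 0, 0, 0, 0, 0, 0, 0, 0, 0, 0, 0, 0, 0, 0, 0, 0, 0, 0, 0, 0, 0, 0, 0, 0, 0, 0, 2, 2, 2, 2, 2, 2, 2, 2]]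

/-- Coefficients of the defining vectors. -/
def tabCo : List (List Nat) := [
  [0, 0, 0, 0, 0, 0, 0, 0, 0, 0, 0, 0, 0, 0, 0, 0, 0, 0, 0, 0, 0, 0, 0, 0, 0, 0, 0, 0, 0, 0, 0, 0, 0, 0, 0, 0, 0, 0, 0, 0, 0, 0, 0, 0, 0, 0, 0, 0, 0],
  [0, 3, 0, 0, 0, 0, 0, 0, 0, 0, 0, 0, 0, 0, 0, 0, 0, 0, 0, 0, 0, 0, 0, 0, 0, 0, 0, 0, 0, 0, 0, 0, 0, 0, 0, 0, 0, 0, 0, 0, 0, 0, 0, 0, 0, 0, 0, 0, 0],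
  [0, 3, 0, 0, 2, 2, 0, 0, 2, 0, 2, 3, 2, 0, 0, 1, 1, 0, 0, 1, 0, 0, 0, 1, 2, 0, 3, 1, 1, 0, 1, 1, 1, 0, 0, 0, 0, 1, 0, 0, 0, 1, 1, 0, 0, 0, 0, 0, 0],
  [0, 3, 2, 2, 2, 2, 0, 0, 2, 0, 0, 2, 2, 2, 1, 3, 0, 1, 0, 1, 1, 0, 0, 1, 2, 0, 1, 1, 1, 0, 1, 3, 1, 0, 0, 0, 0, 1, 0, 0, 0, 1, 1, 0, 0, 0, 0, 0, 0],
  [0, 3, 2, 2, 0, 0, 0, 0, 0, 0, 2, 3, 0, 2, 1, 2, 3, 1, 0, 0, 1, 0, 0, 0, 0, 0, 2, 0, 0, 0, 0, 2, 0, 0, 0, 0, 0, 0, 0, 0, 0, 0, 0, 0, 0, 0, 0, 0, 0],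
  [1, 0, 0, 0, 0, 0, 0, 0, 0, 0, 0, 0, 0, 0, 0, 0, 0, 0, 0, 0, 0, 0, 0, 0, 0, 0, 0, 0, 0, 0, 0, 0, 0, 0, 0, 0, 0, 0, 0, 0, 0, 0, 0, 0, 0, 0, 0, 0, 0],
  [1, 0, 0, 0, 0, 0, 0, 0, 3, 0, 0, 0, 0, 0, 0, 0, 0, 0, 0, 0, 0, 0, 0, 0, 0, 0, 0, 0, 0, 0, 0, 0, 0, 0, 0, 0, 0, 0, 0, 0, 0, 0, 0, 0, 0, 0, 0, 0, 0],
  [1, 0, 0, 0, 0, 0, 0, 0, 3, 0, 1, 0, 0, 0, 0, 0, 0, 0, 0, 0, 0, 0, 0, 0, 0, 0, 0, 0, 0, 0, 0, 0, 0, 0, 0, 0, 0, 0, 0, 0, 0, 0, 0, 0, 0, 0, 0, 0, 0],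
  [1, 0, 0, 0, 2, 2, 0, 0, 1, 0, 0, 0, 2, 0, 0, 1, 1, 0, 0, 1, 0, 0, 0, 1, 2, 0, 3, 1, 1, 0, 1, 1, 1, 0, 0, 0, 0, 1, 0, 0, 0, 1, 1, 0, 0, 0, 0, 0, 0],
  [1, 0, 0, 0, 2, 2, 0, 2, 1, 0, 3, 2, 0, 2, 1, 2, 3, 1, 0, 1, 0, 0, 0, 0, 0, 1, 1, 1, 0, 0, 0, 2, 0, 0, 1, 0, 1, 1, 0, 0, 0, 1, 1, 0, 0, 0, 0, 0, 0],
  [1, 0, 0, 0, 2, 2, 0, 0, 2, 0, 2, 3, 2, 0, 1, 1, 1, 0, 0, 1, 0, 0, 0, 1, 2, 0, 3, 1, 1, 0, 1, 1, 1, 0, 0, 0, 0, 1, 0, 0, 0, 1, 1, 0, 0, 0, 0, 0, 0],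
  [1, 0, 0, 0, 2, 2, 0, 0, 1, 3, 2, 3, 2, 0, 0, 1, 1, 0, 0, 1, 0, 0, 0, 1, 2, 0, 3, 1, 1, 0, 1, 1, 1, 0, 0, 0, 0, 1, 0, 0, 0, 1, 1, 0, 0, 0, 0, 0, 0],
  [1, 0, 2, 2, 2, 2, 0, 0, 1, 3, 0, 2, 2, 2, 1, 2, 0, 1, 0, 1, 1, 0, 0, 1, 2, 0, 1, 1, 1, 0, 1, 3, 1, 0, 0, 0, 0, 1, 0, 0, 0, 1, 1, 0, 0, 0, 0, 0, 0],
  [1, 0, 2, 2, 2, 2, 0, 0, 0, 0, 2, 1, 2, 3, 1, 3, 0, 1, 0, 1, 1, 0, 0, 1, 2, 0, 1, 1, 1, 0, 1, 3, 1, 0, 0, 0, 0, 1, 0, 0, 0, 1, 1, 0, 0, 0, 0, 0, 0],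
  [1, 0, 2, 2, 2, 2, 0, 0, 1, 0, 1, 2, 2, 2, 1, 3, 1, 1, 0, 1, 1, 0, 0, 1, 2, 0, 1, 1, 1, 0, 1, 3, 1, 0, 0, 0, 0, 1, 0, 0, 0, 1, 1, 0, 0, 0, 0, 0, 0],
  [1, 0, 2, 2, 2, 2, 0, 0, 1, 0, 2, 1, 2, 3, 1, 3, 3, 0, 0, 1, 1, 0, 0, 1, 2, 0, 1, 1, 1, 0, 1, 3, 1, 0, 0, 0, 0, 1, 0, 0, 0, 1, 1, 0, 0, 0, 0, 0, 0],
  [1, 0, 2, 2, 0, 0, 0, 2, 3, 0, 3, 3, 2, 3, 0, 3, 0, 3, 0, 1, 1, 0, 0, 1, 2, 1, 2, 0, 1, 0, 1, 1, 3, 0, 1, 0, 1, 0, 0, 0, 0, 0, 0, 0, 0, 0, 0, 0, 0],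
  [1, 0, 2, 2, 0, 0, 0, 0, 3, 0, 2, 1, 0, 1, 1, 0, 1, 1, 0, 0, 1, 0, 0, 0, 2, 1, 0, 0, 0, 0, 0, 0, 0, 0, 0, 0, 0, 0, 0, 0, 0, 0, 0, 0, 0, 0, 0, 0, 0],
  [1, 0, 2, 2, 0, 0, 0, 0, 3, 3, 2, 3, 0, 2, 1, 2, 2, 1, 0, 0, 1, 0, 0, 0, 0, 0, 2, 0, 0, 1, 0, 2, 0, 0, 0, 0, 0, 0, 0, 0, 0, 0, 0, 0, 0, 0, 0, 0, 0],
  [1, 0, 2, 2, 0, 0, 0, 2, 0, 0, 2, 3, 0, 2, 0, 2, 1, 0, 0, 1, 1, 0, 0, 1, 0, 0, 2, 0, 0, 0, 0, 2, 0, 0, 1, 0, 0, 0, 0, 0, 0, 0, 0, 0, 0, 0, 0, 0, 0]]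

/-- Coefficients of images of the generators. -/
def coI : List (List Nat) := [
  [0, 1, 1, 0, 3, 2, 1, 0, 1, 1, 1, 3, 2, 0, 0, 1, 2, 2, 0, 1, 0, 0, 0, 1, 2, 1, 2, 1, 1, 0, 0, 2, 0, 0, 1, 0, 1, 0, 0, 0, 0, 1, 0, 0, 0, 0, 0, 0, 0],
  [3, 0, 1, 2, 1, 2, 1, 3, 0, 0, 3, 3, 2, 0, 0, 1, 1, 3, 3, 0, 3, 1, 0, 0, 2, 1, 3, 1, 1, 0, 1, 1, 0, 0, 1, 0, 1, 0, 0, 0, 0, 1, 1, 0, 0, 0, 0, 0, 0],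
  [0, 0, 3, 2, 0, 2, 2, 3, 2, 0, 3, 0, 2, 2, 0, 3, 2, 1, 1, 1, 1, 0, 0, 1, 1, 0, 2, 0, 1, 1, 0, 0, 1, 0, 0, 0, 0, 1, 0, 0, 0, 1, 1, 0, 0, 0, 0, 0, 0],
  [0, 0, 3, 1, 1, 0, 0, 3, 2, 0, 3, 2, 3, 2, 0, 3, 3, 3, 2, 0, 1, 0, 0, 1, 1, 0, 3, 1, 0, 1, 1, 0, 3, 0, 1, 0, 1, 0, 0, 0, 0, 1, 1, 0, 0, 0, 0, 0, 0],
  [0, 0, 0, 0, 3, 2, 0, 3, 0, 0, 1, 0, 2, 3, 1, 3, 3, 1, 3, 0, 3, 1, 0, 0, 2, 1, 1, 0, 0, 0, 0, 1, 3, 0, 1, 0, 1, 1, 0, 0, 0, 1, 0, 0, 0, 0, 0, 0, 0],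
  [0, 0, 0, 0, 3, 1, 3, 0, 2, 3, 1, 3, 3, 3, 0, 2, 3, 2, 2, 0, 0, 0, 0, 0, 3, 1, 3, 1, 0, 0, 0, 0, 0, 0, 1, 0, 1, 1, 0, 0, 0, 0, 1, 0, 0, 0, 0, 0, 0],
  [0, 0, 0, 0, 0, 0, 3, 3, 3, 1, 2, 2, 2, 1, 0, 1, 1, 1, 3, 0, 0, 0, 0, 1, 3, 0, 1, 1, 1, 1, 0, 3, 0, 0, 0, 0, 1, 1, 0, 0, 0, 0, 0, 0, 0, 0, 0, 0, 0],
  [0, 0, 0, 0, 0, 0, 2, 1, 0, 2, 0, 3, 2, 3, 0, 2, 3, 0, 2, 0, 0, 1, 0, 0, 0, 1, 3, 0, 0, 0, 1, 0, 3, 0, 1, 0, 0, 0, 0, 0, 0, 0, 0, 0, 0, 0, 0, 0, 0],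
  [0, 0, 0, 0, 0, 0, 0, 0, 0, 1, 1, 0, 2, 1, 1, 1, 0, 2, 2, 0, 3, 1, 0, 0, 2, 1, 1, 1, 0, 0, 0, 2, 0, 0, 0, 0, 0, 1, 0, 0, 0, 0, 1, 0, 0, 0, 0, 0, 0],
  [0, 0, 0, 0, 0, 0, 0, 2, 3, 0, 1, 3, 2, 0, 1, 1, 1, 0, 0, 1, 0, 1, 0, 0, 2, 0, 3, 0, 0, 0, 0, 3, 3, 0, 1, 0, 0, 1, 0, 0, 0, 1, 1, 0, 0, 0, 0, 0, 0],
  [0, 0, 0, 0, 0, 0, 0, 0, 0, 0, 3, 1, 2, 1, 1, 1, 3, 1, 0, 1, 0, 0, 0, 0, 0, 1, 0, 0, 0, 1, 0, 1, 3, 0, 1, 0, 1, 0, 0, 0, 0, 0, 0, 0, 0, 0, 0, 0, 0],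
  [0, 0, 0, 0, 0, 0, 0, 0, 0, 0, 2, 1, 2, 0, 1, 1, 0, 1, 2, 0, 1, 0, 0, 0, 2, 0, 0, 1, 1, 0, 1, 3, 3, 0, 1, 0, 1, 0, 0, 0, 0, 0, 0, 0, 0, 0, 0, 0, 0],
  [0, 0, 0, 0, 0, 0, 0, 2, 0, 0, 0, 2, 3, 1, 1, 0, 0, 1, 2, 0, 1, 0, 0, 1, 3, 1, 0, 1, 1, 1, 1, 3, 0, 0, 1, 0, 1, 1, 0, 0, 0, 1, 1, 0, 0, 0, 0, 0, 0],
  [0, 0, 0, 0, 0, 0, 0, 0, 0, 0, 0, 0, 2, 3, 1, 3, 3, 2, 2, 0, 1, 0, 0, 0, 2, 0, 2, 1, 0, 1, 0, 1, 0, 0, 1, 0, 1, 1, 0, 0, 0, 0, 0, 0, 0, 0, 0, 0, 0],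
  [0, 0, 0, 0, 0, 0, 0, 0, 0, 0, 0, 0, 0, 2, 0, 3, 0, 3, 0, 0, 1, 0, 0, 1, 2, 1, 0, 1, 0, 0, 0, 1, 1, 0, 0, 0, 1, 0, 0, 0, 0, 0, 0, 0, 0, 0, 0, 0, 0],
  [0, 0, 0, 0, 0, 0, 0, 0, 0, 0, 0, 0, 0, 2, 1, 2, 1, 2, 2, 0, 1, 0, 0, 1, 0, 1, 0, 1, 1, 1, 1, 2, 1, 0, 0, 0, 1, 1, 0, 0, 0, 1, 1, 0, 0, 0, 0, 0, 0],
  [0, 0, 0, 0, 0, 0, 0, 2, 0, 0, 0, 2, 0, 2, 0, 2, 0, 1, 0, 0, 0, 0, 0, 0, 0, 0, 0, 0, 1, 1, 1, 1, 0, 0, 1, 0, 1, 1, 0, 0, 0, 0, 1, 0, 0, 0, 0, 0, 0],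
  [0, 0, 0, 0, 0, 0, 0, 0, 0, 0, 0, 0, 0, 0, 0, 0, 3, 0, 2, 0, 0, 0, 0, 1, 2, 0, 2, 0, 1, 1, 1, 3, 0, 0, 0, 0, 1, 1, 0, 0, 0, 0, 1, 0, 0, 0, 0, 0, 0],
  [0, 0, 0, 0, 0, 0, 0, 0, 0, 0, 0, 2, 0, 2, 0, 2, 0, 0, 3, 1, 3, 1, 0, 1, 0, 0, 0, 1, 0, 0, 0, 1, 0, 0, 1, 0, 0, 0, 0, 0, 0, 0, 0, 0, 0, 0, 0, 0, 0],
  [0, 0, 0, 0, 0, 0, 0, 0, 0, 0, 0, 0, 0, 2, 0, 2, 0, 0, 2, 1, 0, 0, 0, 1, 2, 0, 0, 0, 0, 0, 0, 1, 3, 0, 1, 0, 0, 0, 0, 0, 0, 1, 1, 0, 0, 0, 0, 0, 0],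
  [0, 0, 0, 0, 0, 0, 0, 0, 0, 0, 0, 2, 0, 0, 0, 0, 0, 0, 0, 0, 1, 0, 0, 0, 2, 0, 1, 0, 1, 1, 0, 0, 0, 0, 0, 0, 0, 0, 0, 0, 0, 1, 0, 0, 0, 0, 0, 0, 0],
  [0, 0, 0, 0, 0, 0, 0, 0, 0, 0, 0, 2, 0, 2, 0, 2, 0, 0, 0, 0, 0, 1, 0, 0, 0, 0, 2, 0, 1, 1, 1, 1, 1, 0, 0, 0, 1, 0, 0, 0, 0, 1, 1, 0, 0, 0, 0, 0, 0],
  [0, 0, 0, 0, 0, 0, 0, 2, 0, 0, 0, 0, 0, 0, 0, 0, 0, 0, 2, 0, 3, 1, 0, 0, 2, 0, 3, 0, 0, 0, 1, 3, 1, 0, 0, 0, 1, 0, 0, 0, 0, 0, 1, 0, 0, 0, 0, 0, 0],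
  [0, 0, 0, 0, 0, 0, 0, 2, 0, 0, 0, 2, 0, 0, 0, 0, 0, 0, 2, 0, 0, 0, 0, 1, 2, 0, 0, 0, 0, 0, 0, 0, 0, 0, 0, 0, 0, 0, 0, 0, 0, 0, 0, 0, 0, 0, 0, 0, 0],
  [0, 0, 0, 0, 0, 0, 0, 0, 0, 0, 0, 0, 0, 2, 0, 2, 0, 0, 0, 0, 0, 0, 0, 0, 3, 1, 2, 0, 1, 0, 1, 3, 1, 0, 0, 0, 0, 0, 0, 0, 0, 1, 1, 0, 0, 0, 0, 0, 0],
  [0, 0, 0, 0, 0, 0, 0, 0, 0, 0, 0, 0, 0, 2, 0, 2, 0, 0, 0, 0, 0, 0, 0, 1, 2, 1, 0, 0, 1, 1, 1, 2, 0, 0, 0, 0, 1, 0, 0, 0, 0, 1, 0, 0, 0, 0, 0, 0, 0],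
  [0, 0, 0, 0, 0, 0, 0, 2, 0, 0, 0, 2, 0, 2, 0, 2, 0, 0, 2, 0, 0, 0, 0, 1, 2, 0, 3, 0, 0, 0, 0, 3, 3, 0, 1, 0, 1, 0, 0, 0, 0, 0, 0, 0, 0, 0, 0, 0, 0],
  [0, 0, 0, 0, 0, 0, 0, 2, 0, 0, 0, 2, 0, 2, 0, 2, 0, 0, 2, 0, 0, 0, 0, 0, 2, 0, 1, 1, 0, 0, 1, 2, 0, 0, 0, 0, 0, 0, 0, 0, 0, 1, 0, 0, 0, 0, 0, 0, 0],
  [0, 0, 0, 0, 0, 0, 0, 0, 0, 0, 0, 0, 0, 0, 0, 0, 0, 0, 0, 0, 0, 0, 0, 0, 0, 0, 0, 0, 0, 1, 1, 1, 3, 0, 1, 0, 0, 0, 0, 0, 0, 1, 0, 0, 0, 0, 0, 0, 0],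
  [0, 0, 0, 0, 0, 0, 0, 0, 0, 0, 0, 0, 0, 2, 0, 2, 0, 0, 0, 0, 0, 0, 0, 1, 0, 0, 0, 0, 1, 0, 1, 0, 0, 0, 0, 0, 1, 0, 0, 0, 0, 1, 0, 0, 0, 0, 0, 0, 0],
  [0, 0, 0, 0, 0, 0, 0, 0, 0, 0, 0, 0, 0, 2, 0, 2, 0, 0, 0, 0, 0, 0, 0, 1, 0, 0, 0, 0, 0, 0, 1, 3, 3, 0, 1, 0, 1, 0, 0, 0, 0, 0, 0, 0, 0, 0, 0, 0, 0],
  [0, 0, 0, 0, 0, 0, 0, 2, 0, 0, 0, 2, 0, 2, 0, 2, 0, 0, 2, 0, 0, 0, 0, 1, 2, 0, 2, 0, 0, 0, 0, 3, 0, 0, 1, 0, 1, 0, 0, 0, 0, 0, 0, 0, 0, 0, 0, 0, 0],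
  [0, 0, 0, 0, 0, 0, 0, 2, 0, 0, 0, 2, 0, 2, 0, 2, 0, 0, 2, 0, 0, 0, 0, 1, 2, 0, 2, 0, 0, 0, 0, 0, 3, 0, 1, 0, 1, 0, 0, 0, 0, 0, 0, 0, 0, 0, 0, 0, 0],
  [0, 0, 0, 0, 0, 0, 0, 2, 0, 0, 0, 2, 0, 0, 0, 0, 0, 0, 2, 0, 0, 0, 0, 1, 2, 0, 0, 0, 0, 0, 0, 3, 1, 0, 0, 0, 0, 0, 0, 0, 0, 0, 0, 0, 0, 0, 0, 0, 0],
  [0, 0, 0, 0, 0, 0, 0, 2, 0, 0, 0, 2, 0, 2, 0, 2, 0, 0, 2, 0, 0, 0, 0, 0, 2, 0, 0, 0, 0, 0, 0, 0, 0, 0, 1, 0, 0, 0, 0, 0, 0, 0, 0, 0, 0, 0, 0, 0, 0],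
  [0, 0, 0, 0, 0, 0, 0, 2, 0, 0, 0, 2, 0, 0, 0, 0, 0, 0, 2, 0, 0, 0, 0, 0, 2, 0, 2, 0, 0, 0, 0, 3, 3, 0, 1, 0, 0, 0, 0, 0, 0, 0, 0, 0, 0, 0, 0, 0, 0],
  [0, 0, 0, 0, 0, 0, 0, 0, 0, 0, 0, 0, 0, 2, 0, 2, 0, 0, 0, 0, 0, 0, 0, 0, 0, 0, 2, 0, 0, 0, 0, 0, 0, 0, 0, 0, 1, 0, 0, 0, 0, 0, 0, 0, 0, 0, 0, 0, 0],
  [0, 0, 0, 0, 0, 0, 0, 0, 0, 0, 0, 0, 0, 0, 0, 0, 0, 0, 0, 0, 0, 0, 0, 0, 0, 0, 0, 0, 0, 0, 0, 0, 0, 0, 0, 0, 1, 1, 0, 0, 0, 0, 0, 0, 0, 0, 0, 0, 0],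
  [0, 0, 0, 0, 0, 0, 0, 2, 0, 0, 0, 2, 0, 2, 0, 2, 0, 0, 2, 0, 0, 0, 0, 0, 2, 0, 0, 0, 0, 0, 0, 3, 3, 0, 1, 0, 0, 0, 0, 0, 0, 0, 0, 0, 0, 0, 0, 0, 0],
  [0, 0, 0, 0, 0, 0, 0, 2, 0, 0, 0, 2, 0, 0, 0, 0, 0, 0, 2, 0, 0, 0, 0, 0, 2, 0, 2, 0, 0, 0, 0, 0, 0, 0, 0, 0, 0, 0, 0, 0, 0, 0, 0, 0, 0, 0, 0, 0, 0],
  [0, 0, 0, 0, 0, 0, 0, 2, 0, 0, 0, 2, 0, 0, 0, 0, 0, 0, 2, 0, 0, 0, 0, 0, 2, 0, 2, 0, 0, 0, 0, 0, 0, 0, 0, 0, 0, 0, 0, 0, 0, 0, 0, 0, 0, 0, 0, 0, 0],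
  [0, 0, 0, 0, 0, 0, 0, 2, 0, 0, 0, 2, 0, 0, 0, 0, 0, 0, 2, 0, 0, 0, 0, 0, 2, 0, 2, 0, 0, 0, 0, 0, 0, 0, 0, 0, 0, 0, 0, 0, 0, 1, 0, 0, 0, 0, 0, 0, 0],
  [0, 0, 0, 0, 0, 0, 0, 2, 0, 0, 0, 2, 0, 2, 0, 2, 0, 0, 2, 0, 0, 0, 0, 0, 2, 0, 0, 0, 0, 0, 0, 0, 0, 0, 0, 0, 0, 0, 0, 0, 0, 0, 1, 0, 0, 0, 0, 0, 0],
  [0, 0, 0, 0, 0, 0, 0, 2, 0, 0, 0, 2, 0, 0, 0, 0, 0, 0, 2, 0, 0, 0, 0, 0, 2, 0, 2, 0, 0, 0, 0, 3, 3, 0, 1, 0, 0, 0, 0, 0, 0, 0, 0, 0, 0, 0, 0, 0, 0],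
  [0, 0, 0, 0, 0, 0, 0, 0, 0, 0, 0, 0, 0, 2, 0, 2, 0, 0, 0, 0, 0, 0, 0, 0, 0, 0, 2, 0, 0, 0, 0, 3, 3, 0, 1, 0, 0, 0, 0, 0, 0, 0, 0, 0, 0, 0, 0, 0, 0],
  [0, 0, 0, 0, 0, 0, 0, 2, 0, 0, 0, 2, 0, 2, 0, 2, 0, 0, 2, 0, 0, 0, 0, 0, 2, 0, 0, 0, 0, 0, 0, 0, 0, 0, 0, 0, 0, 0, 0, 0, 0, 0, 0, 0, 0, 0, 0, 0, 0],
  [0, 0, 0, 0, 0, 0, 0, 2, 0, 0, 0, 2, 0, 2, 0, 2, 0, 0, 2, 0, 0, 0, 0, 0, 2, 0, 0, 0, 0, 0, 0, 0, 0, 0, 0, 0, 0, 0, 0, 0, 0, 0, 0, 0, 0, 0, 0, 0, 0],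
  [0, 0, 0, 0, 0, 0, 0, 2, 0, 0, 0, 2, 0, 2, 0, 2, 0, 0, 2, 0, 0, 0, 0, 0, 2, 0, 0, 0, 0, 0, 0, 0, 0, 0, 0, 0, 0, 0, 0, 0, 0, 0, 0, 0, 0, 0, 0, 0, 0],
  [0, 0, 0, 0, 0, 0, 0, 2, 0, 0, 0, 2, 0, 2, 0, 2, 0, 0, 2, 0, 0, 0, 0, 0, 2, 0, 0, 0, 0, 0, 0, 0, 0, 0, 0, 0, 0, 0, 0, 0, 0, 0, 0, 0, 0, 0, 0, 0, 0]]

/-- Coefficients of images of the generators. -/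
def coJ : List (List Nat) := [
  [0, 1, 1, 0, 0, 0, 0, 0, 0, 0, 0, 0, 0, 0, 0, 0, 0, 0, 0, 0, 0, 0, 0, 0, 0, 0, 0, 0, 0, 0, 0, 0, 0, 0, 0, 0, 0, 0, 0, 0, 0, 0, 0, 0, 0, 0, 0, 0, 0],
  [0, 3, 2, 2, 0, 0, 0, 0, 0, 0, 2, 3, 0, 2, 1, 2, 3, 1, 0, 0, 1, 0, 0, 0, 3, 0, 2, 0, 0, 0, 0, 2, 0, 0, 0, 0, 0, 0, 0, 0, 0, 0, 0, 0, 0, 0, 0, 0, 0],
  [3, 1, 2, 2, 0, 0, 0, 0, 0, 0, 2, 3, 0, 2, 1, 2, 3, 1, 0, 0, 1, 0, 0, 0, 1, 0, 2, 0, 0, 0, 0, 2, 0, 0, 0, 0, 0, 0, 0, 0, 0, 0, 0, 0, 0, 0, 0, 0, 0],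
  [3, 0, 1, 3, 2, 2, 0, 2, 2, 3, 0, 2, 3, 0, 1, 0, 1, 2, 3, 0, 0, 1, 0, 1, 1, 0, 1, 0, 0, 0, 1, 0, 0, 0, 1, 0, 1, 0, 0, 0, 0, 0, 0, 0, 0, 0, 0, 0, 0],
  [0, 0, 0, 0, 2, 2, 1, 1, 3, 1, 2, 3, 2, 0, 1, 1, 1, 1, 3, 1, 1, 0, 0, 0, 1, 1, 0, 0, 1, 1, 1, 0, 1, 0, 0, 0, 0, 1, 0, 0, 0, 1, 0, 0, 0, 0, 0, 0, 0],
  [0, 0, 0, 0, 3, 1, 3, 0, 2, 3, 1, 1, 0, 1, 1, 1, 3, 0, 1, 0, 0, 0, 0, 0, 1, 0, 1, 1, 1, 0, 0, 1, 3, 0, 1, 0, 1, 0, 0, 0, 0, 0, 0, 0, 0, 0, 0, 0, 0],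
  [0, 0, 0, 0, 1, 0, 2, 3, 0, 2, 3, 3, 0, 1, 1, 1, 3, 0, 1, 0, 0, 1, 0, 0, 0, 1, 3, 0, 1, 1, 0, 3, 0, 0, 0, 0, 0, 1, 0, 0, 0, 1, 0, 0, 0, 0, 0, 0, 0],
  [0, 0, 0, 0, 0, 2, 2, 3, 2, 2, 0, 1, 0, 0, 0, 1, 0, 1, 2, 0, 0, 1, 0, 1, 0, 1, 1, 0, 1, 1, 1, 0, 1, 0, 0, 0, 0, 0, 0, 0, 0, 0, 1, 0, 0, 0, 0, 0, 0],
  [0, 0, 0, 0, 0, 0, 0, 2, 0, 1, 1, 2, 0, 0, 0, 1, 0, 3, 0, 1, 3, 1, 0, 1, 3, 0, 1, 1, 0, 0, 0, 0, 0, 0, 1, 0, 0, 0, 0, 0, 0, 0, 0, 0, 0, 0, 0, 0, 0],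
  [0, 0, 0, 0, 0, 0, 0, 2, 0, 3, 2, 3, 0, 0, 0, 1, 2, 3, 0, 0, 0, 1, 0, 0, 2, 0, 2, 0, 0, 1, 1, 2, 3, 0, 1, 0, 0, 0, 0, 0, 0, 0, 1, 0, 0, 0, 0, 0, 0],
  [0, 0, 0, 0, 0, 0, 0, 0, 3, 1, 2, 3, 0, 3, 0, 3, 0, 0, 0, 0, 0, 0, 0, 0, 1, 1, 3, 1, 0, 0, 0, 0, 1, 0, 0, 0, 1, 0, 0, 0, 0, 0, 0, 0, 0, 0, 0, 0, 0],
  [0, 0, 0, 0, 0, 0, 0, 0, 2, 0, 2, 1, 0, 1, 0, 1, 0, 0, 2, 1, 1, 0, 0, 0, 0, 1, 1, 0, 1, 0, 1, 3, 1, 0, 0, 0, 1, 0, 0, 0, 0, 1, 1, 0, 0, 0, 0, 0, 0],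
  [0, 0, 0, 0, 0, 0, 0, 0, 0, 0, 0, 2, 3, 1, 1, 0, 3, 0, 0, 0, 3, 1, 0, 1, 3, 0, 3, 1, 1, 0, 0, 0, 1, 0, 0, 0, 0, 0, 0, 0, 0, 0, 0, 0, 0, 0, 0, 0, 0],
  [0, 0, 0, 0, 0, 0, 0, 2, 0, 0, 0, 2, 0, 2, 0, 3, 3, 3, 0, 1, 1, 0, 0, 0, 2, 0, 1, 0, 0, 0, 0, 0, 0, 0, 0, 0, 0, 1, 0, 0, 0, 0, 1, 0, 0, 0, 0, 0, 0],
  [0, 0, 0, 0, 0, 0, 0, 0, 0, 0, 0, 0, 2, 3, 1, 3, 2, 2, 0, 1, 1, 0, 0, 0, 0, 0, 2, 0, 1, 1, 0, 3, 3, 0, 1, 0, 0, 0, 0, 0, 0, 0, 1, 0, 0, 0, 0, 0, 0],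
  [0, 0, 0, 0, 0, 0, 0, 0, 0, 0, 0, 2, 0, 3, 0, 2, 3, 1, 0, 1, 1, 0, 0, 1, 0, 1, 1, 0, 0, 1, 0, 2, 0, 0, 0, 0, 0, 1, 0, 0, 0, 0, 1, 0, 0, 0, 0, 0, 0],
  [0, 0, 0, 0, 0, 0, 0, 0, 0, 0, 0, 0, 0, 2, 0, 2, 0, 1, 2, 0, 0, 0, 0, 1, 2, 0, 0, 0, 1, 1, 1, 2, 0, 0, 0, 0, 0, 1, 0, 0, 0, 0, 0, 0, 0, 0, 0, 0, 0],
  [0, 0, 0, 0, 0, 0, 0, 0, 0, 0, 0, 0, 0, 2, 0, 2, 1, 2, 2, 0, 0, 0, 0, 1, 2, 0, 0, 0, 1, 1, 1, 3, 3, 0, 1, 0, 0, 1, 0, 0, 0, 0, 1, 0, 0, 0, 0, 0, 0],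
  [0, 0, 0, 0, 0, 0, 0, 0, 0, 0, 0, 0, 0, 2, 0, 2, 3, 1, 3, 1, 1, 0, 0, 1, 0, 0, 0, 1, 1, 1, 1, 3, 3, 0, 1, 0, 0, 1, 0, 0, 0, 1, 1, 0, 0, 0, 0, 0, 0],
  [0, 0, 0, 0, 0, 0, 0, 0, 0, 0, 0, 0, 0, 2, 0, 2, 2, 0, 2, 1, 0, 0, 0, 1, 2, 0, 0, 0, 0, 0, 0, 3, 1, 0, 0, 0, 0, 0, 0, 0, 0, 0, 1, 0, 0, 0, 0, 0, 0],
  [0, 0, 0, 0, 0, 0, 0, 0, 0, 0, 0, 0, 0, 2, 0, 2, 0, 0, 0, 0, 1, 0, 0, 0, 0, 1, 2, 0, 1, 0, 1, 2, 0, 0, 0, 0, 1, 0, 0, 0, 0, 1, 1, 0, 0, 0, 0, 0, 0],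
  [0, 0, 0, 0, 0, 0, 0, 2, 0, 0, 0, 0, 0, 0, 0, 0, 0, 0, 2, 0, 0, 1, 0, 1, 2, 0, 0, 0, 1, 1, 1, 3, 3, 0, 1, 0, 0, 0, 0, 0, 0, 1, 1, 0, 0, 0, 0, 0, 0],
  [0, 0, 0, 0, 0, 0, 0, 0, 0, 0, 0, 0, 0, 0, 0, 0, 0, 0, 0, 0, 3, 1, 0, 1, 2, 1, 2, 0, 0, 1, 0, 3, 3, 0, 1, 0, 1, 0, 0, 0, 0, 0, 0, 0, 0, 0, 0, 0, 0],
  [0, 0, 0, 0, 0, 0, 0, 2, 0, 0, 0, 2, 0, 2, 0, 2, 0, 0, 2, 0, 0, 0, 0, 1, 2, 0, 2, 0, 0, 0, 0, 2, 0, 0, 0, 0, 0, 0, 0, 0, 0, 0, 0, 0, 0, 0, 0, 0, 0],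
  [0, 0, 0, 0, 0, 0, 0, 0, 0, 0, 0, 0, 0, 0, 0, 0, 0, 0, 0, 0, 0, 0, 0, 0, 3, 0, 1, 0, 1, 1, 0, 1, 1, 0, 0, 0, 0, 0, 0, 0, 0, 0, 0, 0, 0, 0, 0, 0, 0],
  [0, 0, 0, 0, 0, 0, 0, 2, 0, 0, 0, 2, 0, 0, 0, 0, 0, 0, 2, 0, 0, 0, 0, 0, 2, 1, 2, 0, 0, 0, 0, 0, 0, 0, 1, 0, 1, 0, 0, 0, 0, 1, 0, 0, 0, 0, 0, 0, 0],
  [0, 0, 0, 0, 0, 0, 0, 0, 0, 0, 0, 0, 0, 2, 0, 2, 0, 0, 0, 0, 0, 0, 0, 0, 2, 0, 3, 0, 1, 1, 1, 3, 1, 0, 0, 0, 1, 0, 0, 0, 0, 1, 0, 0, 0, 0, 0, 0, 0],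
  [0, 0, 0, 0, 0, 0, 0, 2, 0, 0, 0, 2, 0, 0, 0, 0, 0, 0, 2, 0, 0, 0, 0, 1, 0, 1, 0, 1, 1, 0, 1, 3, 1, 0, 0, 0, 1, 0, 0, 0, 0, 1, 0, 0, 0, 0, 0, 0, 0],
  [0, 0, 0, 0, 0, 0, 0, 2, 0, 0, 0, 2, 0, 0, 0, 0, 0, 0, 2, 0, 0, 0, 0, 0, 2, 0, 2, 0, 0, 1, 1, 1, 3, 0, 1, 0, 0, 0, 0, 0, 0, 0, 0, 0, 0, 0, 0, 0, 0],
  [0, 0, 0, 0, 0, 0, 0, 0, 0, 0, 0, 0, 0, 2, 0, 2, 0, 0, 0, 0, 0, 0, 0, 0, 0, 0, 2, 0, 0, 1, 0, 2, 0, 0, 1, 0, 1, 0, 0, 0, 0, 1, 0, 0, 0, 0, 0, 0, 0],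
  [0, 0, 0, 0, 0, 0, 0, 2, 0, 0, 0, 2, 0, 2, 0, 2, 0, 0, 2, 0, 0, 0, 0, 0, 2, 0, 0, 0, 1, 1, 0, 3, 1, 0, 0, 0, 1, 0, 0, 0, 0, 1, 0, 0, 0, 0, 0, 0, 0],
  [0, 0, 0, 0, 0, 0, 0, 0, 0, 0, 0, 0, 0, 2, 0, 2, 0, 0, 0, 0, 0, 0, 0, 1, 0, 0, 0, 0, 0, 0, 0, 1, 0, 0, 1, 0, 1, 0, 0, 0, 0, 0, 0, 0, 0, 0, 0, 0, 0],
  [0, 0, 0, 0, 0, 0, 0, 2, 0, 0, 0, 2, 0, 0, 0, 0, 0, 0, 2, 0, 0, 0, 0, 1, 2, 0, 0, 0, 0, 0, 0, 0, 3, 0, 1, 0, 1, 0, 0, 0, 0, 0, 0, 0, 0, 0, 0, 0, 0],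
  [0, 0, 0, 0, 0, 0, 0, 0, 0, 0, 0, 0, 0, 0, 0, 0, 0, 0, 0, 0, 0, 0, 0, 1, 0, 0, 2, 0, 0, 0, 0, 3, 1, 0, 0, 0, 0, 0, 0, 0, 0, 0, 0, 0, 0, 0, 0, 0, 0],
  [0, 0, 0, 0, 0, 0, 0, 2, 0, 0, 0, 2, 0, 2, 0, 2, 0, 0, 2, 0, 0, 0, 0, 0, 2, 0, 0, 0, 0, 0, 0, 2, 0, 0, 1, 0, 0, 0, 0, 0, 0, 0, 0, 0, 0, 0, 0, 0, 0],
  [0, 0, 0, 0, 0, 0, 0, 0, 0, 0, 0, 0, 0, 2, 0, 2, 0, 0, 0, 0, 0, 0, 0, 0, 0, 0, 2, 0, 0, 0, 0, 3, 3, 0, 1, 0, 0, 0, 0, 0, 0, 0, 0, 0, 0, 0, 0, 0, 0],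
  [0, 0, 0, 0, 0, 0, 0, 0, 0, 0, 0, 0, 0, 0, 0, 0, 0, 0, 0, 0, 0, 0, 0, 0, 0, 0, 0, 0, 0, 0, 0, 0, 0, 0, 0, 0, 1, 0, 0, 0, 0, 0, 0, 0, 0, 0, 0, 0, 0],
  [0, 0, 0, 0, 0, 0, 0, 2, 0, 0, 0, 2, 0, 2, 0, 2, 0, 0, 2, 0, 0, 0, 0, 0, 2, 0, 0, 0, 0, 0, 0, 3, 3, 0, 1, 0, 0, 1, 0, 0, 0, 0, 1, 0, 0, 0, 0, 0, 0],
  [0, 0, 0, 0, 0, 0, 0, 0, 0, 0, 0, 0, 0, 0, 0, 0, 0, 0, 0, 0, 0, 0, 0, 0, 0, 0, 0, 0, 0, 0, 0, 3, 3, 0, 1, 0, 0, 0, 0, 0, 0, 0, 0, 0, 0, 0, 0, 0, 0],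
  [0, 0, 0, 0, 0, 0, 0, 2, 0, 0, 0, 2, 0, 0, 0, 0, 0, 0, 2, 0, 0, 0, 0, 0, 2, 0, 2, 0, 0, 0, 0, 0, 0, 0, 0, 0, 0, 0, 0, 0, 0, 0, 0, 0, 0, 0, 0, 0, 0],
  [0, 0, 0, 0, 0, 0, 0, 2, 0, 0, 0, 2, 0, 0, 0, 0, 0, 0, 2, 0, 0, 0, 0, 0, 2, 0, 2, 0, 0, 0, 0, 0, 0, 0, 0, 0, 0, 0, 0, 0, 0, 0, 0, 0, 0, 0, 0, 0, 0],
  [0, 0, 0, 0, 0, 0, 0, 2, 0, 0, 0, 2, 0, 0, 0, 0, 0, 0, 2, 0, 0, 0, 0, 0, 2, 0, 2, 0, 0, 0, 0, 0, 0, 0, 0, 0, 0, 0, 0, 0, 0, 1, 0, 0, 0, 0, 0, 0, 0],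
  [0, 0, 0, 0, 0, 0, 0, 0, 0, 0, 0, 0, 0, 2, 0, 2, 0, 0, 0, 0, 0, 0, 0, 0, 0, 0, 2, 0, 0, 0, 0, 0, 0, 0, 0, 0, 0, 0, 0, 0, 0, 0, 1, 0, 0, 0, 0, 0, 0],
  [0, 0, 0, 0, 0, 0, 0, 0, 0, 0, 0, 0, 0, 2, 0, 2, 0, 0, 0, 0, 0, 0, 0, 0, 0, 0, 2, 0, 0, 0, 0, 3, 3, 0, 1, 0, 0, 0, 0, 0, 0, 0, 0, 0, 0, 0, 0, 0, 0],
  [0, 0, 0, 0, 0, 0, 0, 2, 0, 0, 0, 2, 0, 0, 0, 0, 0, 0, 2, 0, 0, 0, 0, 0, 2, 0, 2, 0, 0, 0, 0, 3, 3, 0, 1, 0, 0, 0, 0, 0, 0, 0, 0, 0, 0, 0, 0, 0, 0],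
  [0, 0, 0, 0, 0, 0, 0, 2, 0, 0, 0, 2, 0, 2, 0, 2, 0, 0, 2, 0, 0, 0, 0, 0, 2, 0, 0, 0, 0, 0, 0, 0, 0, 0, 0, 0, 0, 0, 0, 0, 0, 0, 0, 0, 0, 0, 0, 0, 0],
  [0, 0, 0, 0, 0, 0, 0, 2, 0, 0, 0, 2, 0, 2, 0, 2, 0, 0, 2, 0, 0, 0, 0, 0, 2, 0, 0, 0, 0, 0, 0, 0, 0, 0, 0, 0, 0, 0, 0, 0, 0, 0, 0, 0, 0, 0, 0, 0, 0],
  [0, 0, 0, 0, 0, 0, 0, 2, 0, 0, 0, 2, 0, 2, 0, 2, 0, 0, 2, 0, 0, 0, 0, 0, 2, 0, 0, 0, 0, 0, 0, 0, 0, 0, 0, 0, 0, 0, 0, 0, 0, 0, 0, 0, 0, 0, 0, 0, 0],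
  [0, 0, 0, 0, 0, 0, 0, 2, 0, 0, 0, 2, 0, 2, 0, 2, 0, 0, 2, 0, 0, 0, 0, 0, 2, 0, 0, 0, 0, 0, 0, 0, 0, 0, 0, 0, 0, 0, 0, 0, 0, 0, 0, 0, 0, 0, 0, 0, 0]]

/-- Coefficients of images of the generators. -/
def coK : List (List Nat) := [
  [0, 1, 0, 0, 1, 0, 0, 0, 0, 0, 0, 0, 0, 0, 0, 0, 0, 0, 0, 0, 0, 0, 0, 0, 0, 0, 0, 0, 0, 0, 0, 0, 0, 0, 0, 0, 0, 0, 0, 0, 0, 0, 0, 0, 0, 0, 0, 0, 0],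
  [0, 3, 0, 0, 2, 2, 0, 0, 2, 0, 2, 3, 2, 2, 0, 3, 1, 0, 0, 1, 0, 0, 0, 1, 2, 0, 1, 1, 1, 1, 0, 3, 1, 0, 0, 0, 0, 1, 0, 0, 0, 1, 1, 0, 0, 0, 0, 0, 0],
  [0, 2, 2, 2, 0, 0, 3, 3, 3, 3, 2, 3, 0, 0, 0, 0, 3, 0, 1, 0, 0, 0, 0, 1, 2, 1, 1, 1, 0, 0, 1, 3, 0, 0, 0, 0, 0, 0, 0, 0, 0, 0, 1, 0, 0, 0, 0, 0, 0],
  [0, 1, 3, 1, 2, 2, 1, 2, 1, 3, 0, 2, 2, 0, 1, 1, 2, 0, 1, 1, 0, 1, 0, 0, 0, 1, 3, 1, 1, 1, 0, 2, 3, 0, 1, 0, 1, 1, 0, 0, 0, 1, 0, 0, 0, 0, 0, 0, 0],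
  [3, 1, 0, 0, 2, 2, 0, 0, 2, 0, 2, 3, 2, 0, 0, 1, 1, 0, 0, 1, 0, 0, 0, 1, 2, 0, 3, 1, 1, 1, 0, 3, 1, 0, 0, 0, 0, 1, 0, 0, 0, 1, 1, 0, 0, 0, 0, 0, 0],
  [3, 0, 2, 2, 3, 1, 0, 0, 1, 3, 2, 3, 1, 0, 1, 1, 2, 2, 2, 1, 0, 0, 0, 1, 3, 1, 2, 1, 1, 0, 0, 2, 3, 0, 1, 0, 0, 1, 0, 0, 0, 0, 1, 0, 0, 0, 0, 0, 0],
  [0, 0, 3, 0, 2, 2, 2, 1, 2, 0, 1, 0, 2, 3, 0, 3, 1, 0, 3, 0, 3, 1, 0, 0, 2, 0, 3, 0, 0, 1, 0, 2, 0, 0, 0, 0, 0, 0, 0, 0, 0, 0, 1, 0, 0, 0, 0, 0, 0],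
  [0, 0, 0, 2, 2, 2, 2, 3, 2, 0, 2, 0, 2, 0, 1, 1, 3, 2, 2, 1, 1, 0, 0, 1, 0, 1, 1, 0, 0, 1, 0, 1, 1, 0, 0, 0, 0, 1, 0, 0, 0, 0, 0, 0, 0, 0, 0, 0, 0],
  [0, 0, 0, 0, 0, 0, 0, 2, 1, 0, 0, 2, 0, 1, 1, 0, 3, 2, 0, 0, 1, 0, 0, 0, 3, 0, 2, 0, 0, 1, 0, 3, 0, 0, 0, 0, 0, 1, 0, 0, 0, 0, 0, 0, 0, 0, 0, 0, 0],
  [0, 0, 0, 0, 0, 0, 0, 2, 3, 0, 1, 0, 0, 2, 1, 2, 2, 0, 2, 1, 3, 1, 0, 1, 1, 0, 3, 0, 1, 1, 0, 1, 1, 0, 0, 0, 1, 0, 0, 0, 0, 1, 0, 0, 0, 0, 0, 0, 0],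
  [0, 0, 0, 0, 0, 0, 0, 0, 1, 3, 2, 3, 0, 1, 1, 0, 1, 2, 0, 1, 3, 1, 0, 1, 2, 1, 3, 1, 1, 1, 1, 0, 3, 0, 1, 0, 0, 1, 0, 0, 0, 1, 0, 0, 0, 0, 0, 0, 0],
  [0, 0, 0, 0, 0, 0, 0, 2, 2, 2, 0, 0, 0, 2, 1, 2, 2, 0, 0, 0, 1, 0, 0, 0, 2, 1, 1, 1, 1, 0, 1, 2, 0, 0, 1, 0, 1, 0, 0, 0, 0, 1, 1, 0, 0, 0, 0, 0, 0],
  [0, 0, 0, 0, 0, 0, 0, 2, 3, 1, 3, 0, 3, 1, 1, 1, 0, 0, 0, 1, 1, 0, 0, 1, 0, 0, 0, 0, 0, 0, 0, 1, 0, 0, 0, 0, 0, 1, 0, 0, 0, 1, 1, 0, 0, 0, 0, 0, 0],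
  [0, 0, 0, 0, 0, 0, 0, 0, 2, 0, 2, 1, 0, 1, 1, 0, 2, 0, 0, 1, 3, 1, 0, 0, 0, 0, 0, 1, 0, 1, 0, 2, 0, 0, 0, 0, 0, 1, 0, 0, 0, 1, 1, 0, 0, 0, 0, 0, 0],
  [0, 0, 0, 0, 0, 0, 0, 0, 0, 0, 2, 3, 0, 2, 0, 2, 0, 0, 0, 0, 1, 0, 0, 1, 2, 0, 0, 1, 1, 1, 0, 1, 3, 0, 1, 0, 0, 0, 0, 0, 0, 0, 1, 0, 0, 0, 0, 0, 0],
  [0, 0, 0, 0, 0, 0, 0, 0, 0, 0, 0, 3, 2, 2, 1, 3, 0, 0, 0, 1, 3, 1, 0, 0, 0, 0, 3, 1, 1, 0, 0, 0, 0, 0, 0, 0, 0, 1, 0, 0, 0, 1, 1, 0, 0, 0, 0, 0, 0],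
  [0, 0, 0, 0, 0, 0, 0, 0, 0, 0, 0, 0, 0, 2, 0, 2, 1, 0, 2, 1, 0, 1, 0, 1, 0, 1, 1, 0, 0, 0, 0, 3, 1, 0, 0, 0, 1, 1, 0, 0, 0, 1, 0, 0, 0, 0, 0, 0, 0],
  [0, 0, 0, 0, 0, 0, 0, 0, 0, 0, 0, 2, 0, 2, 0, 2, 0, 1, 0, 1, 0, 1, 0, 0, 2, 1, 3, 0, 0, 0, 0, 3, 3, 0, 1, 0, 0, 1, 0, 0, 0, 0, 0, 0, 0, 0, 0, 0, 0],
  [0, 0, 0, 0, 0, 0, 0, 0, 0, 0, 0, 2, 0, 2, 0, 2, 0, 0, 1, 1, 3, 1, 0, 0, 2, 1, 3, 0, 0, 1, 1, 3, 1, 0, 0, 0, 0, 1, 0, 0, 0, 0, 0, 0, 0, 0, 0, 0, 0],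
  [0, 0, 0, 0, 0, 0, 0, 2, 0, 0, 0, 2, 0, 0, 0, 0, 0, 0, 2, 1, 0, 0, 0, 1, 2, 0, 0, 0, 0, 0, 0, 2, 0, 0, 1, 0, 0, 0, 0, 0, 0, 0, 1, 0, 0, 0, 0, 0, 0],
  [0, 0, 0, 0, 0, 0, 0, 0, 0, 0, 0, 0, 0, 2, 0, 2, 0, 2, 2, 0, 1, 0, 0, 0, 2, 1, 3, 0, 0, 1, 1, 2, 0, 0, 0, 0, 0, 0, 0, 0, 0, 0, 0, 0, 0, 0, 0, 0, 0],
  [0, 0, 0, 0, 0, 0, 0, 0, 0, 0, 0, 0, 0, 2, 0, 2, 2, 0, 0, 0, 0, 1, 0, 0, 2, 1, 3, 0, 0, 1, 1, 2, 0, 0, 1, 0, 1, 0, 0, 0, 0, 0, 0, 0, 0, 0, 0, 0, 0],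
  [0, 0, 0, 0, 0, 0, 0, 2, 0, 0, 0, 0, 0, 0, 0, 0, 0, 0, 0, 0, 3, 1, 0, 0, 0, 0, 2, 0, 0, 0, 0, 0, 0, 0, 1, 0, 1, 0, 0, 0, 0, 0, 0, 0, 0, 0, 0, 0, 0],
  [0, 0, 0, 0, 0, 0, 0, 2, 0, 0, 0, 2, 0, 2, 0, 2, 0, 0, 2, 0, 0, 0, 0, 1, 2, 0, 2, 0, 0, 0, 0, 0, 0, 0, 0, 0, 0, 0, 0, 0, 0, 0, 0, 0, 0, 0, 0, 0, 0],
  [0, 0, 0, 0, 0, 0, 0, 2, 0, 0, 0, 2, 0, 0, 0, 0, 0, 0, 2, 0, 0, 0, 0, 0, 3, 1, 2, 0, 1, 0, 1, 3, 1, 0, 0, 0, 0, 0, 0, 0, 0, 0, 0, 0, 0, 0, 0, 0, 0],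
  [0, 0, 0, 0, 0, 0, 0, 2, 0, 0, 0, 2, 0, 0, 0, 0, 0, 0, 2, 0, 0, 0, 0, 0, 0, 0, 2, 0, 0, 1, 0, 0, 0, 0, 0, 0, 0, 0, 0, 0, 0, 0, 0, 0, 0, 0, 0, 0, 0],
  [0, 0, 0, 0, 0, 0, 0, 2, 0, 0, 0, 2, 0, 0, 0, 0, 0, 0, 2, 0, 0, 0, 0, 0, 2, 0, 2, 0, 0, 0, 1, 2, 0, 0, 0, 0, 0, 0, 0, 0, 0, 0, 0, 0, 0, 0, 0, 0, 0],
  [0, 0, 0, 0, 0, 0, 0, 0, 0, 0, 0, 0, 0, 2, 0, 2, 0, 0, 0, 0, 0, 0, 0, 1, 2, 0, 1, 1, 0, 0, 1, 3, 1, 0, 0, 0, 1, 0, 0, 0, 0, 1, 0, 0, 0, 0, 0, 0, 0],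
  [0, 0, 0, 0, 0, 0, 0, 0, 0, 0, 0, 0, 0, 2, 0, 2, 0, 0, 0, 0, 0, 0, 0, 0, 0, 1, 3, 0, 1, 1, 1, 2, 0, 0, 0, 0, 0, 0, 0, 0, 0, 0, 0, 0, 0, 0, 0, 0, 0],
  [0, 0, 0, 0, 0, 0, 0, 2, 0, 0, 0, 2, 0, 2, 0, 2, 0, 0, 2, 0, 0, 0, 0, 0, 0, 1, 0, 0, 0, 0, 0, 2, 0, 0, 0, 0, 0, 0, 0, 0, 0, 0, 0, 0, 0, 0, 0, 0, 0],
  [0, 0, 0, 0, 0, 0, 0, 2, 0, 0, 0, 2, 0, 0, 0, 0, 0, 0, 2, 0, 0, 0, 0, 0, 2, 0, 3, 0, 0, 0, 0, 0, 0, 0, 0, 0, 0, 0, 0, 0, 0, 0, 0, 0, 0, 0, 0, 0, 0],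
  [0, 0, 0, 0, 0, 0, 0, 2, 0, 0, 0, 2, 0, 0, 0, 0, 0, 0, 2, 0, 0, 0, 0, 1, 2, 0, 0, 0, 0, 0, 0, 0, 3, 0, 1, 0, 0, 0, 0, 0, 0, 0, 1, 0, 0, 0, 0, 0, 0],
  [0, 0, 0, 0, 0, 0, 0, 2, 0, 0, 0, 2, 0, 0, 0, 0, 0, 0, 2, 0, 0, 0, 0, 1, 2, 0, 0, 0, 0, 0, 0, 1, 0, 0, 1, 0, 0, 0, 0, 0, 0, 0, 1, 0, 0, 0, 0, 0, 0],
  [0, 0, 0, 0, 0, 0, 0, 2, 0, 0, 0, 2, 0, 2, 0, 2, 0, 0, 2, 0, 0, 0, 0, 1, 2, 0, 2, 0, 0, 0, 0, 1, 1, 0, 0, 0, 0, 0, 0, 0, 0, 0, 0, 0, 0, 0, 0, 0, 0],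
  [0, 0, 0, 0, 0, 0, 0, 0, 0, 0, 0, 0, 0, 2, 0, 2, 0, 0, 0, 0, 0, 0, 0, 0, 0, 0, 2, 0, 0, 0, 0, 2, 0, 0, 1, 0, 0, 0, 0, 0, 0, 0, 0, 0, 0, 0, 0, 0, 0],
  [0, 0, 0, 0, 0, 0, 0, 0, 0, 0, 0, 0, 0, 0, 0, 0, 0, 0, 0, 0, 0, 0, 0, 0, 0, 0, 0, 0, 0, 0, 0, 3, 3, 0, 1, 0, 0, 0, 0, 0, 0, 0, 0, 0, 0, 0, 0, 0, 0],
  [0, 0, 0, 0, 0, 0, 0, 0, 0, 0, 0, 0, 0, 0, 0, 0, 0, 0, 0, 0, 0, 0, 0, 0, 0, 0, 0, 0, 0, 0, 0, 2, 0, 0, 0, 0, 1, 0, 0, 0, 0, 0, 0, 0, 0, 0, 0, 0, 0],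
  [0, 0, 0, 0, 0, 0, 0, 2, 0, 0, 0, 2, 0, 0, 0, 0, 0, 0, 2, 0, 0, 0, 0, 1, 2, 0, 0, 0, 0, 0, 0, 2, 0, 0, 0, 0, 1, 1, 0, 0, 0, 0, 1, 0, 0, 0, 0, 0, 0],
  [0, 0, 0, 0, 0, 0, 0, 0, 0, 0, 0, 0, 0, 2, 0, 2, 0, 0, 0, 0, 0, 0, 0, 0, 0, 0, 2, 0, 0, 0, 0, 3, 3, 0, 1, 0, 0, 0, 0, 0, 0, 0, 0, 0, 0, 0, 0, 0, 0],
  [0, 0, 0, 0, 0, 0, 0, 2, 0, 0, 0, 2, 0, 0, 0, 0, 0, 0, 2, 0, 0, 0, 0, 0, 2, 0, 2, 0, 0, 0, 0, 0, 0, 0, 0, 0, 0, 0, 0, 0, 0, 0, 0, 0, 0, 0, 0, 0, 0],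
  [0, 0, 0, 0, 0, 0, 0, 2, 0, 0, 0, 2, 0, 0, 0, 0, 0, 0, 2, 0, 0, 0, 0, 0, 2, 0, 2, 0, 0, 0, 0, 0, 0, 0, 0, 0, 0, 0, 0, 0, 0, 0, 0, 0, 0, 0, 0, 0, 0],
  [0, 0, 0, 0, 0, 0, 0, 2, 0, 0, 0, 2, 0, 2, 0, 2, 0, 0, 2, 0, 0, 0, 0, 0, 2, 0, 0, 0, 0, 0, 0, 0, 0, 0, 0, 0, 0, 0, 0, 0, 0, 1, 0, 0, 0, 0, 0, 0, 0],
  [0, 0, 0, 0, 0, 0, 0, 2, 0, 0, 0, 2, 0, 0, 0, 0, 0, 0, 2, 0, 0, 0, 0, 0, 2, 0, 2, 0, 0, 0, 0, 0, 0, 0, 0, 0, 0, 0, 0, 0, 0, 0, 1, 0, 0, 0, 0, 0, 0],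
  [0, 0, 0, 0, 0, 0, 0, 0, 0, 0, 0, 0, 0, 0, 0, 0, 0, 0, 0, 0, 0, 0, 0, 0, 0, 0, 0, 0, 0, 0, 0, 3, 3, 0, 1, 0, 0, 0, 0, 0, 0, 0, 0, 0, 0, 0, 0, 0, 0],
  [0, 0, 0, 0, 0, 0, 0, 2, 0, 0, 0, 2, 0, 2, 0, 2, 0, 0, 2, 0, 0, 0, 0, 0, 2, 0, 0, 0, 0, 0, 0, 3, 3, 0, 1, 0, 0, 0, 0, 0, 0, 0, 0, 0, 0, 0, 0, 0, 0],
  [0, 0, 0, 0, 0, 0, 0, 2, 0, 0, 0, 2, 0, 2, 0, 2, 0, 0, 2, 0, 0, 0, 0, 0, 2, 0, 0, 0, 0, 0, 0, 0, 0, 0, 0, 0, 0, 0, 0, 0, 0, 0, 0, 0, 0, 0, 0, 0, 0],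
  [0, 0, 0, 0, 0, 0, 0, 2, 0, 0, 0, 2, 0, 2, 0, 2, 0, 0, 2, 0, 0, 0, 0, 0, 2, 0, 0, 0, 0, 0, 0, 0, 0, 0, 0, 0, 0, 0, 0, 0, 0, 0, 0, 0, 0, 0, 0, 0, 0],
  [0, 0, 0, 0, 0, 0, 0, 2, 0, 0, 0, 2, 0, 2, 0, 2, 0, 0, 2, 0, 0, 0, 0, 0, 2, 0, 0, 0, 0, 0, 0, 0, 0, 0, 0, 0, 0, 0, 0, 0, 0, 0, 0, 0, 0, 0, 0, 0, 0],
  [0, 0, 0, 0, 0, 0, 0, 2, 0, 0, 0, 2, 0, 2, 0, 2, 0, 0, 2, 0, 0, 0, 0, 0, 2, 0, 0, 0, 0, 0, 0, 0, 0, 0, 0, 0, 0, 0, 0, 0, 0, 0, 0, 0, 0, 0, 0, 0, 0]]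

/-- Coefficients of images of the generators. -/
def coSign : List (List Nat) := [
  [3, 0, 0, 0, 0, 0, 0, 0, 2, 0, 2, 3, 0, 1, 0, 0, 3, 0, 2, 1, 0, 0, 0, 1, 2, 0, 2, 0, 1, 0, 1, 0, 0, 0, 1, 0, 0, 0, 0, 0, 0, 0, 0, 0, 0, 0, 0, 0, 0],
  [0, 3, 0, 0, 0, 0, 0, 0, 0, 0, 0, 0, 0, 0, 0, 0, 0, 0, 0, 0, 0, 0, 0, 0, 0, 0, 0, 0, 0, 0, 0, 0, 0, 0, 0, 0, 0, 0, 0, 0, 0, 0, 0, 0, 0, 0, 0, 0, 0],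
  [0, 0, 3, 0, 0, 0, 0, 2, 0, 0, 0, 3, 0, 3, 0, 2, 3, 2, 0, 1, 0, 0, 0, 1, 0, 1, 2, 0, 1, 1, 1, 2, 0, 0, 0, 0, 0, 0, 0, 0, 0, 0, 1, 0, 0, 0, 0, 0, 0],
  [0, 0, 0, 3, 0, 0, 0, 2, 0, 0, 2, 2, 0, 3, 1, 2, 2, 3, 0, 1, 1, 0, 0, 1, 2, 0, 3, 0, 1, 0, 0, 0, 0, 0, 0, 0, 0, 0, 0, 0, 0, 0, 0, 0, 0, 0, 0, 0, 0],
  [0, 0, 0, 0, 3, 0, 0, 0, 0, 0, 2, 1, 0, 1, 0, 0, 3, 0, 2, 1, 0, 0, 0, 1, 0, 1, 2, 0, 0, 0, 0, 3, 3, 0, 1, 0, 0, 0, 0, 0, 0, 1, 1, 0, 0, 0, 0, 0, 0],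
  [0, 0, 0, 0, 0, 3, 0, 2, 2, 0, 0, 2, 2, 1, 0, 1, 0, 0, 0, 0, 0, 0, 0, 0, 0, 1, 3, 1, 1, 0, 1, 0, 0, 0, 1, 0, 0, 1, 0, 0, 0, 1, 1, 0, 0, 0, 0, 0, 0],
  [0, 0, 0, 0, 0, 0, 3, 0, 2, 0, 2, 1, 0, 1, 0, 0, 3, 0, 2, 1, 0, 0, 0, 1, 2, 0, 2, 0, 1, 0, 1, 3, 1, 0, 0, 0, 0, 0, 0, 0, 0, 1, 1, 0, 0, 0, 0, 0, 0],
  [0, 0, 0, 0, 0, 0, 0, 3, 0, 0, 0, 2, 0, 0, 0, 0, 0, 0, 2, 0, 0, 0, 0, 0, 2, 0, 2, 0, 0, 0, 0, 0, 0, 0, 0, 0, 0, 0, 0, 0, 0, 1, 1, 0, 0, 0, 0, 0, 0],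
  [0, 0, 0, 0, 0, 0, 0, 2, 1, 0, 0, 2, 0, 0, 0, 0, 0, 0, 2, 0, 0, 0, 0, 0, 0, 1, 2, 0, 1, 0, 1, 2, 0, 0, 1, 0, 0, 0, 0, 0, 0, 0, 0, 0, 0, 0, 0, 0, 0],
  [0, 0, 0, 0, 0, 0, 0, 0, 0, 1, 0, 0, 0, 0, 0, 0, 0, 0, 0, 0, 0, 0, 0, 0, 2, 1, 0, 0, 0, 1, 0, 3, 1, 0, 0, 0, 0, 0, 0, 0, 0, 1, 1, 0, 0, 0, 0, 0, 0],
  [0, 0, 0, 0, 0, 0, 0, 0, 0, 0, 1, 0, 0, 2, 0, 2, 0, 0, 0, 0, 0, 0, 0, 0, 2, 0, 2, 0, 1, 1, 1, 2, 0, 0, 0, 0, 0, 0, 0, 0, 0, 0, 0, 0, 0, 0, 0, 0, 0],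
  [0, 0, 0, 0, 0, 0, 0, 2, 0, 0, 0, 3, 0, 2, 0, 2, 0, 0, 2, 0, 0, 0, 0, 0, 2, 0, 0, 0, 0, 0, 0, 3, 3, 0, 1, 0, 0, 0, 0, 0, 0, 1, 1, 0, 0, 0, 0, 0, 0],
  [0, 0, 0, 0, 0, 0, 0, 0, 0, 0, 0, 0, 1, 0, 0, 0, 0, 0, 0, 0, 0, 0, 0, 0, 0, 1, 1, 0, 1, 0, 0, 3, 3, 0, 1, 0, 0, 0, 0, 0, 0, 1, 0, 0, 0, 0, 0, 0, 0],
  [0, 0, 0, 0, 0, 0, 0, 0, 0, 0, 0, 0, 0, 1, 0, 0, 0, 0, 0, 0, 0, 0, 0, 0, 0, 0, 0, 0, 0, 0, 0, 0, 0, 0, 0, 0, 0, 0, 0, 0, 0, 0, 1, 0, 0, 0, 0, 0, 0],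
  [0, 0, 0, 0, 0, 0, 0, 2, 0, 0, 0, 2, 0, 0, 1, 0, 0, 0, 2, 0, 0, 0, 0, 0, 2, 0, 2, 0, 0, 0, 0, 3, 3, 0, 1, 0, 0, 0, 0, 0, 0, 1, 1, 0, 0, 0, 0, 0, 0],
  [0, 0, 0, 0, 0, 0, 0, 2, 0, 0, 0, 2, 0, 0, 0, 1, 0, 0, 2, 0, 0, 0, 0, 0, 2, 0, 2, 0, 0, 0, 0, 0, 0, 0, 0, 0, 0, 0, 0, 0, 0, 0, 1, 0, 0, 0, 0, 0, 0],
  [0, 0, 0, 0, 0, 0, 0, 0, 0, 0, 0, 0, 0, 2, 0, 2, 1, 0, 0, 0, 0, 0, 0, 0, 0, 0, 2, 0, 0, 0, 0, 3, 3, 0, 1, 0, 0, 0, 0, 0, 0, 1, 0, 0, 0, 0, 0, 0, 0],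
  [0, 0, 0, 0, 0, 0, 0, 2, 0, 0, 0, 2, 0, 0, 0, 0, 0, 1, 2, 0, 0, 0, 0, 0, 2, 0, 2, 0, 0, 0, 0, 3, 3, 0, 1, 0, 0, 0, 0, 0, 0, 1, 0, 0, 0, 0, 0, 0, 0],
  [0, 0, 0, 0, 0, 0, 0, 0, 0, 0, 0, 0, 0, 0, 0, 0, 0, 0, 1, 0, 0, 0, 0, 0, 2, 0, 0, 0, 0, 0, 0, 3, 3, 0, 1, 0, 0, 0, 0, 0, 0, 0, 0, 0, 0, 0, 0, 0, 0],
  [0, 0, 0, 0, 0, 0, 0, 0, 0, 0, 0, 0, 0, 0, 0, 0, 0, 0, 0, 1, 0, 0, 0, 0, 0, 0, 0, 0, 0, 0, 0, 0, 0, 0, 0, 0, 0, 0, 0, 0, 0, 0, 0, 0, 0, 0, 0, 0, 0],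
  [0, 0, 0, 0, 0, 0, 0, 2, 0, 0, 0, 2, 0, 0, 0, 0, 0, 0, 2, 0, 1, 0, 0, 0, 2, 0, 2, 0, 0, 0, 0, 0, 0, 0, 0, 0, 0, 0, 0, 0, 0, 0, 0, 0, 0, 0, 0, 0, 0],
  [0, 0, 0, 0, 0, 0, 0, 2, 0, 0, 0, 2, 0, 0, 0, 0, 0, 0, 2, 0, 0, 1, 0, 0, 2, 0, 2, 0, 0, 0, 0, 0, 0, 0, 0, 0, 0, 0, 0, 0, 0, 0, 0, 0, 0, 0, 0, 0, 0],
  [0, 0, 0, 0, 0, 0, 0, 2, 0, 0, 0, 0, 0, 0, 0, 0, 0, 0, 2, 0, 3, 1, 0, 0, 0, 0, 2, 0, 0, 0, 0, 2, 0, 0, 0, 0, 0, 0, 0, 0, 0, 0, 0, 0, 0, 0, 0, 0, 0],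
  [0, 0, 0, 0, 0, 0, 0, 0, 0, 0, 0, 0, 0, 0, 0, 0, 0, 0, 0, 0, 0, 0, 0, 1, 0, 0, 2, 0, 0, 0, 0, 2, 0, 0, 0, 0, 0, 0, 0, 0, 0, 0, 0, 0, 0, 0, 0, 0, 0],
  [0, 0, 0, 0, 0, 0, 0, 0, 0, 0, 0, 0, 0, 0, 0, 0, 0, 0, 0, 0, 0, 0, 0, 0, 3, 0, 0, 0, 0, 0, 0, 0, 0, 0, 0, 0, 0, 0, 0, 0, 0, 0, 0, 0, 0, 0, 0, 0, 0],
  [0, 0, 0, 0, 0, 0, 0, 2, 0, 0, 0, 2, 0, 0, 0, 0, 0, 0, 2, 0, 0, 0, 0, 0, 2, 1, 2, 0, 0, 0, 0, 0, 0, 0, 0, 0, 0, 0, 0, 0, 0, 0, 0, 0, 0, 0, 0, 0, 0],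
  [0, 0, 0, 0, 0, 0, 0, 2, 0, 0, 0, 2, 0, 2, 0, 2, 0, 0, 2, 0, 0, 0, 0, 0, 2, 0, 1, 0, 0, 0, 0, 0, 0, 0, 0, 0, 0, 0, 0, 0, 0, 0, 0, 0, 0, 0, 0, 0, 0],
  [0, 0, 0, 0, 0, 0, 0, 0, 0, 0, 0, 0, 0, 0, 0, 0, 0, 0, 0, 0, 0, 0, 0, 0, 0, 0, 0, 1, 0, 0, 0, 0, 0, 0, 0, 0, 0, 0, 0, 0, 0, 0, 0, 0, 0, 0, 0, 0, 0],
  [0, 0, 0, 0, 0, 0, 0, 0, 0, 0, 0, 0, 0, 2, 0, 2, 0, 0, 0, 0, 0, 0, 0, 0, 0, 0, 2, 0, 1, 0, 0, 0, 0, 0, 0, 0, 0, 0, 0, 0, 0, 0, 0, 0, 0, 0, 0, 0, 0],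
  [0, 0, 0, 0, 0, 0, 0, 2, 0, 0, 0, 2, 0, 0, 0, 0, 0, 0, 2, 0, 0, 0, 0, 0, 2, 0, 2, 0, 0, 1, 0, 0, 0, 0, 0, 0, 0, 0, 0, 0, 0, 0, 0, 0, 0, 0, 0, 0, 0],
  [0, 0, 0, 0, 0, 0, 0, 2, 0, 0, 0, 2, 0, 2, 0, 2, 0, 0, 2, 0, 0, 0, 0, 0, 2, 0, 0, 0, 0, 0, 1, 0, 0, 0, 0, 0, 0, 0, 0, 0, 0, 0, 0, 0, 0, 0, 0, 0, 0],
  [0, 0, 0, 0, 0, 0, 0, 2, 0, 0, 0, 2, 0, 2, 0, 2, 0, 0, 2, 0, 0, 0, 0, 0, 2, 0, 0, 0, 0, 0, 0, 1, 0, 0, 0, 0, 0, 0, 0, 0, 0, 0, 0, 0, 0, 0, 0, 0, 0],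
  [0, 0, 0, 0, 0, 0, 0, 2, 0, 0, 0, 2, 0, 2, 0, 2, 0, 0, 2, 0, 0, 0, 0, 0, 2, 0, 0, 0, 0, 0, 0, 0, 1, 0, 0, 0, 0, 0, 0, 0, 0, 0, 0, 0, 0, 0, 0, 0, 0],
  [0, 0, 0, 0, 0, 0, 0, 0, 0, 0, 0, 0, 0, 0, 0, 0, 0, 0, 0, 0, 0, 0, 0, 1, 0, 0, 2, 0, 0, 0, 0, 1, 1, 0, 0, 0, 0, 0, 0, 0, 0, 0, 0, 0, 0, 0, 0, 0, 0],
  [0, 0, 0, 0, 0, 0, 0, 0, 0, 0, 0, 0, 0, 0, 0, 0, 0, 0, 0, 0, 0, 0, 0, 0, 0, 0, 0, 0, 0, 0, 0, 0, 0, 0, 1, 0, 0, 0, 0, 0, 0, 0, 0, 0, 0, 0, 0, 0, 0],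
  [0, 0, 0, 0, 0, 0, 0, 0, 0, 0, 0, 0, 0, 2, 0, 2, 0, 0, 0, 0, 0, 0, 0, 0, 0, 0, 2, 0, 0, 0, 0, 3, 3, 0, 1, 0, 0, 0, 0, 0, 0, 0, 0, 0, 0, 0, 0, 0, 0],
  [0, 0, 0, 0, 0, 0, 0, 0, 0, 0, 0, 0, 0, 0, 0, 0, 0, 0, 0, 0, 0, 0, 0, 0, 0, 0, 0, 0, 0, 0, 0, 0, 0, 0, 0, 0, 1, 0, 0, 0, 0, 0, 0, 0, 0, 0, 0, 0, 0],
  [0, 0, 0, 0, 0, 0, 0, 0, 0, 0, 0, 0, 0, 2, 0, 2, 0, 0, 0, 0, 0, 0, 0, 0, 0, 0, 2, 0, 0, 0, 0, 0, 0, 0, 0, 0, 0, 1, 0, 0, 0, 0, 0, 0, 0, 0, 0, 0, 0],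
  [0, 0, 0, 0, 0, 0, 0, 0, 0, 0, 0, 0, 0, 0, 0, 0, 0, 0, 0, 0, 0, 0, 0, 0, 0, 0, 0, 0, 0, 0, 0, 3, 3, 0, 1, 0, 0, 0, 0, 0, 0, 0, 0, 0, 0, 0, 0, 0, 0],
  [0, 0, 0, 0, 0, 0, 0, 2, 0, 0, 0, 2, 0, 0, 0, 0, 0, 0, 2, 0, 0, 0, 0, 0, 2, 0, 2, 0, 0, 0, 0, 0, 0, 0, 0, 0, 0, 0, 0, 0, 0, 0, 0, 0, 0, 0, 0, 0, 0],
  [0, 0, 0, 0, 0, 0, 0, 2, 0, 0, 0, 2, 0, 0, 0, 0, 0, 0, 2, 0, 0, 0, 0, 0, 2, 0, 2, 0, 0, 0, 0, 0, 0, 0, 0, 0, 0, 0, 0, 0, 0, 0, 0, 0, 0, 0, 0, 0, 0],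
  [0, 0, 0, 0, 0, 0, 0, 0, 0, 0, 0, 0, 0, 0, 0, 0, 0, 0, 0, 0, 0, 0, 0, 0, 0, 0, 0, 0, 0, 0, 0, 0, 0, 0, 0, 0, 0, 0, 0, 0, 0, 1, 0, 0, 0, 0, 0, 0, 0],
  [0, 0, 0, 0, 0, 0, 0, 0, 0, 0, 0, 0, 0, 0, 0, 0, 0, 0, 0, 0, 0, 0, 0, 0, 0, 0, 0, 0, 0, 0, 0, 0, 0, 0, 0, 0, 0, 0, 0, 0, 0, 0, 1, 0, 0, 0, 0, 0, 0],
  [0, 0, 0, 0, 0, 0, 0, 0, 0, 0, 0, 0, 0, 2, 0, 2, 0, 0, 0, 0, 0, 0, 0, 0, 0, 0, 2, 0, 0, 0, 0, 3, 3, 0, 1, 0, 0, 0, 0, 0, 0, 0, 0, 0, 0, 0, 0, 0, 0],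
  [0, 0, 0, 0, 0, 0, 0, 2, 0, 0, 0, 2, 0, 0, 0, 0, 0, 0, 2, 0, 0, 0, 0, 0, 2, 0, 2, 0, 0, 0, 0, 3, 3, 0, 1, 0, 0, 0, 0, 0, 0, 0, 0, 0, 0, 0, 0, 0, 0],
  [0, 0, 0, 0, 0, 0, 0, 2, 0, 0, 0, 2, 0, 2, 0, 2, 0, 0, 2, 0, 0, 0, 0, 0, 2, 0, 0, 0, 0, 0, 0, 0, 0, 0, 0, 0, 0, 0, 0, 0, 0, 0, 0, 0, 0, 0, 0, 0, 0],
  [0, 0, 0, 0, 0, 0, 0, 2, 0, 0, 0, 2, 0, 2, 0, 2, 0, 0, 2, 0, 0, 0, 0, 0, 2, 0, 0, 0, 0, 0, 0, 0, 0, 0, 0, 0, 0, 0, 0, 0, 0, 0, 0, 0, 0, 0, 0, 0, 0],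
  [0, 0, 0, 0, 0, 0, 0, 2, 0, 0, 0, 2, 0, 2, 0, 2, 0, 0, 2, 0, 0, 0, 0, 0, 2, 0, 0, 0, 0, 0, 0, 0, 0, 0, 0, 0, 0, 0, 0, 0, 0, 0, 0, 0, 0, 0, 0, 0, 0],
  [0, 0, 0, 0, 0, 0, 0, 2, 0, 0, 0, 2, 0, 2, 0, 2, 0, 0, 2, 0, 0, 0, 0, 0, 2, 0, 0, 0, 0, 0, 0, 0, 0, 0, 0, 0, 0, 0, 0, 0, 0, 0, 0, 0, 0, 0, 0, 0, 0]]

/-- Coefficients of images of the generators. -/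
def coShift : List (List Nat) := [
  [1, 0, 3, 1, 0, 0, 0, 0, 0, 0, 0, 0, 0, 0, 0, 0, 0, 0, 0, 0, 0, 0, 0, 0, 0, 0, 0, 0, 0, 0, 0, 0, 0, 0, 0, 0, 0, 0, 0, 0, 0, 0, 0, 0, 0, 0, 0, 0, 0],
  [0, 0, 0, 0, 0, 0, 0, 0, 0, 0, 0, 0, 0, 2, 0, 2, 3, 0, 0, 0, 0, 1, 0, 0, 0, 0, 2, 0, 0, 0, 0, 2, 0, 0, 0, 0, 0, 0, 0, 0, 0, 0, 0, 0, 0, 0, 0, 0, 0],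
  [0, 0, 0, 1, 2, 2, 0, 2, 2, 3, 2, 3, 3, 2, 0, 2, 3, 1, 3, 0, 1, 0, 0, 1, 0, 0, 3, 0, 0, 0, 1, 2, 0, 0, 1, 0, 1, 0, 0, 0, 0, 0, 0, 0, 0, 0, 0, 0, 0],
  [0, 0, 3, 2, 3, 1, 0, 2, 0, 3, 0, 2, 1, 2, 0, 3, 0, 1, 3, 1, 1, 0, 0, 0, 2, 0, 0, 1, 1, 0, 0, 1, 3, 0, 1, 0, 1, 1, 0, 0, 0, 1, 1, 0, 0, 0, 0, 0, 0],
  [0, 0, 1, 3, 3, 2, 2, 3, 2, 0, 2, 3, 2, 2, 1, 3, 0, 0, 0, 1, 0, 0, 0, 1, 2, 0, 2, 0, 1, 1, 1, 1, 3, 0, 1, 0, 1, 1, 0, 0, 0, 1, 1, 0, 0, 0, 0, 0, 0],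
  [3, 0, 0, 0, 0, 1, 2, 3, 0, 0, 2, 3, 2, 1, 0, 1, 2, 3, 2, 0, 0, 1, 0, 1, 2, 1, 0, 0, 0, 0, 1, 0, 1, 0, 0, 0, 1, 1, 0, 0, 0, 0, 0, 0, 0, 0, 0, 0, 0],
  [1, 0, 1, 3, 2, 2, 2, 1, 2, 0, 2, 1, 3, 0, 0, 0, 0, 0, 1, 1, 0, 1, 0, 0, 2, 0, 1, 0, 1, 0, 1, 0, 0, 0, 1, 0, 1, 1, 0, 0, 0, 0, 0, 0, 0, 0, 0, 0, 0],
  [2, 0, 0, 0, 2, 2, 0, 0, 0, 0, 1, 0, 2, 1, 0, 0, 1, 0, 2, 1, 0, 1, 0, 1, 0, 1, 2, 1, 1, 0, 1, 3, 0, 0, 0, 0, 1, 1, 0, 0, 0, 0, 0, 0, 0, 0, 0, 0, 0],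
  [1, 0, 0, 0, 3, 0, 0, 2, 0, 0, 0, 2, 1, 2, 1, 3, 0, 1, 0, 0, 0, 0, 0, 1, 2, 1, 2, 0, 1, 0, 1, 1, 3, 0, 1, 0, 1, 0, 0, 0, 0, 0, 0, 0, 0, 0, 0, 0, 0],
  [0, 1, 0, 0, 1, 0, 3, 0, 0, 0, 0, 0, 3, 0, 1, 1, 0, 1, 0, 1, 0, 0, 0, 1, 2, 1, 2, 0, 1, 0, 1, 3, 1, 0, 0, 0, 1, 0, 0, 0, 0, 0, 0, 0, 0, 0, 0, 0, 0],
  [0, 0, 1, 0, 1, 2, 0, 2, 2, 0, 3, 0, 3, 0, 0, 0, 3, 2, 1, 1, 0, 0, 0, 0, 0, 1, 3, 1, 0, 0, 0, 0, 0, 0, 1, 0, 1, 1, 0, 0, 0, 1, 1, 0, 0, 0, 0, 0, 0],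
  [0, 0, 0, 2, 0, 2, 2, 3, 2, 0, 0, 1, 1, 0, 1, 0, 1, 1, 2, 0, 0, 0, 0, 0, 0, 1, 3, 1, 0, 0, 0, 0, 0, 0, 0, 0, 1, 1, 0, 0, 0, 1, 1, 0, 0, 0, 0, 0, 0],
  [0, 0, 0, 0, 1, 0, 1, 2, 3, 0, 1, 2, 0, 0, 0, 0, 0, 3, 0, 1, 0, 0, 0, 0, 2, 0, 3, 0, 1, 0, 0, 2, 3, 0, 1, 0, 0, 0, 0, 0, 0, 1, 0, 0, 0, 0, 0, 0, 0],
  [0, 0, 0, 0, 0, 2, 2, 3, 3, 0, 0, 0, 1, 0, 1, 0, 2, 1, 2, 1, 0, 1, 0, 1, 2, 1, 0, 1, 0, 0, 0, 2, 0, 0, 1, 0, 0, 0, 0, 0, 0, 0, 0, 0, 0, 0, 0, 0, 0],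
  [0, 0, 0, 0, 0, 0, 2, 3, 3, 3, 3, 1, 1, 0, 1, 1, 2, 1, 2, 1, 1, 0, 0, 1, 2, 0, 0, 0, 0, 1, 0, 0, 0, 0, 1, 0, 0, 0, 0, 0, 0, 1, 1, 0, 0, 0, 0, 0, 0],
  [0, 0, 0, 0, 0, 0, 0, 1, 3, 0, 0, 2, 3, 0, 1, 0, 2, 1, 2, 1, 3, 1, 0, 1, 1, 0, 3, 1, 0, 1, 1, 2, 0, 0, 1, 0, 0, 1, 0, 0, 0, 1, 0, 0, 0, 0, 0, 0, 0],
  [0, 0, 0, 0, 0, 0, 0, 2, 1, 0, 0, 0, 0, 2, 1, 2, 0, 1, 0, 1, 0, 0, 0, 1, 3, 0, 3, 0, 1, 1, 1, 1, 0, 0, 1, 0, 0, 1, 0, 0, 0, 1, 1, 0, 0, 0, 0, 0, 0],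
  [0, 0, 0, 0, 0, 0, 0, 2, 0, 1, 3, 0, 0, 1, 1, 0, 1, 1, 0, 1, 0, 1, 0, 1, 0, 1, 1, 1, 0, 0, 0, 3, 0, 0, 1, 0, 1, 0, 0, 0, 0, 1, 1, 0, 0, 0, 0, 0, 0],
  [0, 0, 0, 0, 0, 0, 0, 0, 0, 0, 1, 2, 1, 0, 0, 0, 3, 1, 3, 1, 1, 0, 0, 0, 0, 1, 0, 0, 1, 0, 1, 2, 3, 0, 1, 0, 1, 0, 0, 0, 0, 0, 1, 0, 0, 0, 0, 0, 0],
  [0, 0, 0, 0, 0, 0, 0, 2, 0, 0, 0, 1, 2, 0, 1, 0, 1, 1, 0, 0, 0, 1, 0, 1, 0, 0, 1, 0, 1, 0, 1, 1, 1, 0, 0, 0, 1, 1, 0, 0, 0, 1, 0, 0, 0, 0, 0, 0, 0],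
  [0, 0, 0, 0, 0, 0, 0, 2, 0, 0, 0, 2, 2, 1, 0, 1, 0, 0, 2, 0, 1, 0, 0, 1, 3, 0, 1, 0, 1, 1, 0, 1, 0, 0, 0, 0, 0, 0, 0, 0, 0, 0, 0, 0, 0, 0, 0, 0, 0],
  [0, 0, 0, 0, 0, 0, 0, 0, 0, 0, 0, 0, 0, 3, 1, 2, 0, 1, 2, 1, 0, 1, 0, 0, 1, 1, 2, 1, 0, 0, 0, 0, 3, 0, 1, 0, 1, 0, 0, 0, 0, 1, 1, 0, 0, 0, 0, 0, 0],
  [0, 0, 0, 0, 0, 0, 0, 2, 0, 0, 0, 2, 0, 2, 1, 3, 0, 3, 2, 1, 3, 1, 0, 1, 2, 1, 3, 1, 1, 1, 0, 1, 3, 0, 1, 0, 1, 0, 0, 0, 0, 1, 1, 0, 0, 0, 0, 0, 0],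
  [0, 0, 0, 0, 0, 0, 0, 0, 0, 0, 0, 0, 0, 0, 0, 0, 0, 0, 0, 0, 0, 0, 0, 1, 2, 1, 2, 0, 1, 0, 1, 1, 1, 0, 0, 0, 1, 0, 0, 0, 0, 0, 0, 0, 0, 0, 0, 0, 0],
  [0, 0, 0, 0, 0, 0, 0, 0, 0, 0, 0, 2, 0, 0, 0, 0, 1, 1, 0, 1, 0, 1, 0, 0, 0, 0, 0, 0, 0, 1, 1, 0, 1, 0, 0, 0, 0, 1, 0, 0, 0, 1, 1, 0, 0, 0, 0, 0, 0],
  [0, 0, 0, 0, 0, 0, 0, 2, 0, 0, 0, 0, 0, 2, 0, 2, 0, 2, 0, 0, 1, 0, 0, 1, 3, 0, 2, 1, 1, 1, 0, 2, 3, 0, 1, 0, 1, 1, 0, 0, 0, 1, 0, 0, 0, 0, 0, 0, 0],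
  [0, 0, 0, 0, 0, 0, 0, 2, 0, 0, 0, 0, 0, 0, 0, 0, 0, 0, 0, 0, 3, 1, 0, 1, 3, 0, 0, 1, 1, 0, 1, 1, 0, 0, 0, 0, 1, 0, 0, 0, 0, 0, 1, 0, 0, 0, 0, 0, 0],
  [0, 0, 0, 0, 0, 0, 0, 0, 0, 0, 0, 0, 0, 2, 0, 2, 0, 0, 0, 1, 3, 1, 0, 1, 0, 0, 0, 0, 1, 0, 1, 0, 3, 0, 1, 0, 1, 1, 0, 0, 0, 0, 1, 0, 0, 0, 0, 0, 0],
  [0, 0, 0, 0, 0, 0, 0, 0, 0, 0, 0, 2, 0, 0, 0, 0, 0, 0, 0, 0, 0, 1, 0, 0, 2, 0, 0, 0, 0, 1, 1, 3, 1, 0, 0, 0, 1, 1, 0, 0, 0, 0, 0, 0, 0, 0, 0, 0, 0],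
  [0, 0, 0, 0, 0, 0, 0, 0, 0, 0, 0, 2, 0, 0, 0, 0, 0, 0, 0, 0, 1, 0, 0, 0, 3, 0, 1, 1, 0, 0, 0, 1, 0, 0, 0, 0, 1, 1, 0, 0, 0, 0, 0, 0, 0, 0, 0, 0, 0],
  [0, 0, 0, 0, 0, 0, 0, 2, 0, 0, 0, 0, 0, 0, 0, 0, 0, 0, 2, 0, 3, 1, 0, 1, 3, 0, 1, 1, 0, 1, 1, 2, 1, 0, 0, 0, 1, 0, 0, 0, 0, 1, 0, 0, 0, 0, 0, 0, 0],
  [0, 0, 0, 0, 0, 0, 0, 0, 0, 0, 0, 0, 0, 0, 0, 0, 0, 0, 0, 0, 0, 0, 0, 1, 3, 0, 2, 1, 1, 1, 0, 0, 1, 0, 0, 0, 0, 1, 0, 0, 0, 0, 1, 0, 0, 0, 0, 0, 0],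
  [0, 0, 0, 0, 0, 0, 0, 0, 0, 0, 0, 0, 0, 0, 0, 0, 0, 0, 0, 0, 0, 0, 0, 1, 1, 0, 3, 1, 0, 0, 0, 2, 3, 0, 1, 0, 0, 1, 0, 0, 0, 1, 0, 0, 0, 0, 0, 0, 0],
  [0, 0, 0, 0, 0, 0, 0, 0, 0, 0, 0, 0, 0, 2, 0, 2, 0, 0, 0, 0, 0, 0, 0, 1, 0, 1, 1, 0, 0, 1, 1, 1, 3, 0, 1, 0, 1, 0, 0, 0, 0, 1, 1, 0, 0, 0, 0, 0, 0],
  [0, 0, 0, 0, 0, 0, 0, 0, 0, 0, 0, 0, 0, 2, 0, 2, 0, 0, 0, 0, 0, 0, 0, 0, 0, 0, 3, 0, 1, 1, 0, 1, 1, 0, 0, 0, 1, 0, 0, 0, 0, 1, 1, 0, 0, 0, 0, 0, 0],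
  [0, 0, 0, 0, 0, 0, 0, 0, 0, 0, 0, 0, 0, 2, 0, 2, 0, 0, 0, 0, 0, 0, 0, 0, 0, 0, 2, 0, 0, 0, 0, 3, 3, 0, 1, 0, 1, 0, 0, 0, 0, 0, 0, 0, 0, 0, 0, 0, 0],
  [0, 0, 0, 0, 0, 0, 0, 2, 0, 0, 0, 2, 0, 0, 0, 0, 0, 0, 2, 0, 0, 0, 0, 1, 2, 0, 0, 0, 1, 1, 1, 2, 0, 0, 0, 0, 1, 0, 0, 0, 0, 1, 0, 0, 0, 0, 0, 0, 0],
  [0, 0, 0, 0, 0, 0, 0, 0, 0, 0, 0, 0, 0, 2, 0, 2, 0, 0, 0, 0, 0, 0, 0, 0, 0, 0, 2, 0, 0, 1, 0, 3, 3, 0, 1, 0, 1, 0, 0, 0, 0, 0, 0, 0, 0, 0, 0, 0, 0],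
  [0, 0, 0, 0, 0, 0, 0, 0, 0, 0, 0, 0, 0, 0, 0, 0, 0, 0, 0, 0, 0, 0, 0, 0, 0, 0, 0, 0, 0, 0, 0, 1, 3, 0, 1, 0, 1, 0, 0, 0, 0, 0, 0, 0, 0, 0, 0, 0, 0],
  [0, 0, 0, 0, 0, 0, 0, 2, 0, 0, 0, 2, 0, 2, 0, 2, 0, 0, 2, 0, 0, 0, 0, 0, 2, 0, 0, 0, 0, 0, 0, 2, 0, 0, 0, 0, 0, 0, 0, 0, 0, 0, 0, 0, 0, 0, 0, 0, 0],
  [0, 0, 0, 0, 0, 0, 0, 2, 0, 0, 0, 2, 0, 2, 0, 2, 0, 0, 2, 0, 0, 0, 0, 0, 2, 0, 0, 0, 0, 0, 0, 2, 0, 0, 0, 0, 0, 0, 0, 0, 0, 0, 0, 0, 0, 0, 0, 0, 0],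
  [0, 0, 0, 0, 0, 0, 0, 2, 0, 0, 0, 2, 0, 2, 0, 2, 0, 0, 2, 0, 0, 0, 0, 1, 2, 0, 2, 0, 0, 0, 0, 1, 1, 0, 0, 0, 0, 0, 0, 0, 0, 1, 1, 0, 0, 0, 0, 0, 0],
  [0, 0, 0, 0, 0, 0, 0, 2, 0, 0, 0, 2, 0, 2, 0, 2, 0, 0, 2, 0, 0, 0, 0, 0, 2, 0, 0, 0, 0, 0, 0, 1, 1, 0, 0, 0, 0, 0, 0, 0, 0, 1, 0, 0, 0, 0, 0, 0, 0],
  [0, 0, 0, 0, 0, 0, 0, 0, 0, 0, 0, 0, 0, 2, 0, 2, 0, 0, 0, 0, 0, 0, 0, 0, 0, 0, 2, 0, 0, 0, 0, 3, 3, 0, 1, 0, 1, 0, 0, 0, 0, 0, 0, 0, 0, 0, 0, 0, 0],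
  [0, 0, 0, 0, 0, 0, 0, 2, 0, 0, 0, 2, 0, 2, 0, 2, 0, 0, 2, 0, 0, 0, 0, 0, 2, 0, 0, 0, 0, 0, 0, 3, 3, 0, 1, 0, 1, 0, 0, 0, 0, 0, 0, 0, 0, 0, 0, 0, 0],
  [0, 0, 0, 0, 0, 0, 0, 2, 0, 0, 0, 2, 0, 0, 0, 0, 0, 0, 2, 0, 0, 0, 0, 0, 2, 0, 2, 0, 0, 0, 0, 0, 0, 0, 0, 0, 0, 0, 0, 0, 0, 0, 0, 0, 0, 0, 0, 0, 0],
  [0, 0, 0, 0, 0, 0, 0, 2, 0, 0, 0, 2, 0, 0, 0, 0, 0, 0, 2, 0, 0, 0, 0, 0, 2, 0, 2, 0, 0, 0, 0, 0, 0, 0, 0, 0, 0, 0, 0, 0, 0, 0, 0, 0, 0, 0, 0, 0, 0],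
  [0, 0, 0, 0, 0, 0, 0, 2, 0, 0, 0, 2, 0, 0, 0, 0, 0, 0, 2, 0, 0, 0, 0, 0, 2, 0, 2, 0, 0, 0, 0, 0, 0, 0, 0, 0, 0, 0, 0, 0, 0, 0, 0, 0, 0, 0, 0, 0, 0],
  [0, 0, 0, 0, 0, 0, 0, 2, 0, 0, 0, 2, 0, 0, 0, 0, 0, 0, 2, 0, 0, 0, 0, 0, 2, 0, 2, 0, 0, 0, 0, 0, 0, 0, 0, 0, 0, 0, 0, 0, 0, 0, 0, 0, 0, 0, 0, 0, 0]]

/-- Parity checks with members of the span giving them. -/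
def parA : List (List Bool × List Nat × List Nat) := [
  ([true, true, true, true],
    [2, 2, 2, 2, 2, 2, 2, 2, 0, 0, 0, 0, 0, 0, 0, 0, 0, 0, 0, 0, 0, 0, 0, 0, 0, 0, 0, 0, 0, 0, 0, 0, 0, 0, 0, 0, 0, 0, 0, 0, 0, 0, 0, 0, 0, 0, 0, 0, 0, 0, 0, 0, 0, 0, 0, 0],
    [2, 2, 2, 0, 2, 0, 2, 0, 0, 0, 2, 2, 0, 2, 0, 2, 0, 2, 0, 0, 0, 0, 0, 0, 0, 2, 2, 0, 2, 2, 2, 0, 0, 0, 2, 0, 0, 0, 0, 0, 0, 2, 2, 0, 0, 0, 0, 0, 0]),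
  ([true, false, true, false, false, true, true],
    [2, 2, 0, 0, 2, 2, 0, 0, 0, 0, 2, 2, 2, 2, 0, 0, 0, 0, 0, 0, 0, 0, 0, 0, 0, 0, 0, 0, 0, 0, 0, 0, 0, 0, 0, 0, 0, 0, 0, 0, 0, 0, 0, 0, 0, 0, 0, 0, 0, 0, 0, 0, 0, 0, 0, 0],
    [2, 2, 0, 0, 2, 0, 0, 2, 2, 0, 2, 0, 0, 0, 2, 0, 2, 2, 2, 2, 0, 0, 0, 3, 2, 0, 2, 0, 2, 2, 2, 1, 1, 0, 3, 0, 0, 0, 0, 0, 0, 1, 3, 0, 0, 0, 0, 0, 0]),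
  ([true, false, true, false, true, false, false, true],
    [2, 2, 0, 0, 2, 2, 0, 0, 2, 2, 0, 0, 0, 0, 2, 2, 0, 0, 0, 0, 0, 0, 0, 0, 0, 0, 0, 0, 0, 0, 0, 0, 0, 0, 0, 0, 0, 0, 0, 0, 0, 0, 0, 0, 0, 0, 0, 0, 0, 0, 0, 0, 0, 0, 0, 0],
    [2, 2, 0, 0, 2, 0, 0, 0, 0, 2, 0, 0, 0, 2, 2, 2, 2, 2, 0, 2, 0, 0, 0, 3, 2, 2, 0, 0, 2, 2, 2, 3, 1, 0, 3, 0, 2, 0, 0, 0, 0, 1, 1, 0, 0, 0, 0, 0, 0]),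
  ([false, true, true, false, false, false, false, false, true, true],
    [0, 0, 2, 2, 2, 2, 0, 0, 0, 0, 0, 0, 0, 0, 0, 0, 2, 2, 2, 2, 0, 0, 0, 0, 0, 0, 0, 0, 0, 0, 0, 0, 0, 0, 0, 0, 0, 0, 0, 0, 0, 0, 0, 0, 0, 0, 0, 0, 0, 0, 0, 0, 0, 0, 0, 0],
    [0, 0, 2, 0, 2, 0, 0, 2, 0, 0, 2, 2, 0, 0, 2, 0, 0, 2, 2, 2, 0, 0, 0, 3, 0, 1, 0, 0, 1, 2, 1, 2, 0, 0, 2, 0, 3, 0, 0, 0, 0, 1, 2, 0, 0, 0, 0, 0, 0]),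
  ([true, true, false, false, true, true, false, false, true, false, true],
    [2, 2, 2, 2, 0, 0, 0, 0, 2, 2, 2, 2, 0, 0, 0, 0, 2, 2, 0, 0, 2, 2, 0, 0, 0, 0, 0, 0, 0, 0, 0, 0, 0, 0, 0, 0, 0, 0, 0, 0, 0, 0, 0, 0, 0, 0, 0, 0, 0, 0, 0, 0, 0, 0, 0, 0],
    [2, 2, 2, 0, 0, 0, 0, 2, 0, 2, 0, 2, 2, 0, 2, 0, 0, 2, 2, 2, 0, 0, 0, 0, 0, 2, 3, 0, 3, 3, 2, 3, 3, 0, 3, 0, 1, 0, 0, 0, 0, 2, 2, 0, 0, 0, 0, 0, 0]),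
  ([true, false, true, false, true, true, false, false, true, false, false, true],
    [2, 2, 0, 0, 2, 2, 0, 0, 2, 2, 2, 2, 0, 0, 0, 0, 2, 2, 0, 0, 0, 0, 2, 2, 0, 0, 0, 0, 0, 0, 0, 0, 0, 0, 0, 0, 0, 0, 0, 0, 0, 0, 0, 0, 0, 0, 0, 0, 0, 0, 0, 0, 0, 0, 0, 0],
    [2, 2, 0, 0, 2, 0, 0, 2, 0, 2, 2, 0, 2, 0, 2, 0, 0, 0, 2, 2, 0, 0, 0, 3, 2, 3, 1, 0, 2, 3, 3, 3, 1, 0, 3, 0, 0, 0, 0, 0, 0, 1, 2, 0, 0, 0, 0, 0, 0]),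
  ([true, false, true, false, false, false, false, false, false, false, false, false, true, true],
    [2, 2, 0, 0, 2, 2, 0, 0, 0, 0, 0, 0, 0, 0, 0, 0, 0, 0, 0, 0, 0, 0, 0, 0, 2, 2, 2, 2, 0, 0, 0, 0, 0, 0, 0, 0, 0, 0, 0, 0, 0, 0, 0, 0, 0, 0, 0, 0, 0, 0, 0, 0, 0, 0, 0, 0],
    [2, 2, 0, 0, 2, 0, 0, 0, 2, 0, 0, 0, 0, 2, 2, 2, 2, 2, 0, 2, 0, 0, 0, 2, 0, 2, 0, 0, 2, 2, 2, 1, 3, 0, 3, 0, 2, 0, 0, 0, 0, 3, 2, 0, 0, 0, 0, 0, 0]),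
  ([false, true, true, false, true, true, false, false, false, false, false, false, true, false, true],
    [0, 0, 2, 2, 2, 2, 0, 0, 2, 2, 2, 2, 0, 0, 0, 0, 0, 0, 0, 0, 0, 0, 0, 0, 2, 2, 0, 0, 2, 2, 0, 0, 0, 0, 0, 0, 0, 0, 0, 0, 0, 0, 0, 0, 0, 0, 0, 0, 0, 0, 0, 0, 0, 0, 0, 0],
    [0, 0, 2, 0, 2, 0, 0, 2, 2, 2, 0, 0, 2, 0, 2, 0, 2, 0, 0, 2, 0, 0, 0, 3, 2, 2, 2, 0, 0, 2, 0, 2, 2, 0, 0, 0, 3, 0, 0, 0, 0, 1, 0, 0, 0, 0, 0, 0, 0]),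
  ([true, true, false, false, true, true, false, false, false, false, false, false, true, false, false, true],
    [2, 2, 2, 2, 0, 0, 0, 0, 2, 2, 2, 2, 0, 0, 0, 0, 0, 0, 0, 0, 0, 0, 0, 0, 2, 2, 0, 0, 0, 0, 2, 2, 0, 0, 0, 0, 0, 0, 0, 0, 0, 0, 0, 0, 0, 0, 0, 0, 0, 0, 0, 0, 0, 0, 0, 0],
    [2, 2, 2, 0, 0, 0, 0, 0, 0, 2, 0, 0, 2, 2, 2, 2, 2, 0, 2, 2, 0, 0, 0, 3, 2, 2, 2, 0, 0, 0, 2, 3, 3, 0, 3, 0, 3, 0, 0, 0, 0, 2, 2, 0, 0, 0, 0, 0, 0]),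
  ([true, false, true, false, true, true, false, false, false, false, false, false, false, false, false, false, true, true],
    [2, 2, 0, 0, 2, 2, 0, 0, 2, 2, 2, 2, 0, 0, 0, 0, 0, 0, 0, 0, 0, 0, 0, 0, 0, 0, 0, 0, 0, 0, 0, 0, 2, 2, 2, 2, 0, 0, 0, 0, 0, 0, 0, 0, 0, 0, 0, 0, 0, 0, 0, 0, 0, 0, 0, 0],
    [2, 2, 0, 0, 2, 0, 0, 0, 0, 2, 2, 0, 2, 2, 2, 2, 2, 2, 2, 2, 0, 0, 0, 3, 2, 3, 1, 0, 2, 3, 3, 3, 3, 0, 3, 0, 0, 0, 0, 0, 0, 2, 3, 0, 0, 0, 0, 0, 0]),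
  ([true, true, false, false, false, false, false, false, false, false, false, false, false, false, false, false, true, false, true],
    [2, 2, 2, 2, 0, 0, 0, 0, 0, 0, 0, 0, 0, 0, 0, 0, 0, 0, 0, 0, 0, 0, 0, 0, 0, 0, 0, 0, 0, 0, 0, 0, 2, 2, 0, 0, 2, 2, 0, 0, 0, 0, 0, 0, 0, 0, 0, 0, 0, 0, 0, 0, 0, 0, 0, 0],
    [2, 2, 2, 0, 0, 0, 0, 0, 2, 0, 2, 0, 0, 2, 2, 2, 2, 0, 0, 2, 0, 0, 0, 2, 0, 1, 2, 0, 2, 1, 0, 3, 1, 0, 1, 0, 3, 0, 0, 0, 0, 2, 1, 0, 0, 0, 0, 0, 0]),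
  ([false, true, true, false, true, true, false, false, false, false, false, false, false, false, false, false, true, false, false, true],
    [0, 0, 2, 2, 2, 2, 0, 0, 2, 2, 2, 2, 0, 0, 0, 0, 0, 0, 0, 0, 0, 0, 0, 0, 0, 0, 0, 0, 0, 0, 0, 0, 2, 2, 0, 0, 0, 0, 2, 2, 0, 0, 0, 0, 0, 0, 0, 0, 0, 0, 0, 0, 0, 0, 0, 0],
    [0, 0, 2, 0, 2, 0, 0, 2, 2, 2, 0, 0, 2, 0, 2, 0, 2, 0, 0, 2, 0, 0, 0, 3, 0, 2, 1, 0, 2, 0, 3, 0, 0, 0, 2, 0, 3, 0, 0, 0, 0, 0, 2, 0, 0, 0, 0, 0, 0]),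
  ([true, true, false, false, true, true, false, false, false, false, false, false, false, false, false, false, false, false, false, false, true, true],
    [2, 2, 2, 2, 0, 0, 0, 0, 2, 2, 2, 2, 0, 0, 0, 0, 0, 0, 0, 0, 0, 0, 0, 0, 0, 0, 0, 0, 0, 0, 0, 0, 0, 0, 0, 0, 0, 0, 0, 0, 2, 2, 2, 2, 0, 0, 0, 0, 0, 0, 0, 0, 0, 0, 0, 0],
    [2, 2, 2, 0, 0, 0, 0, 0, 0, 2, 0, 0, 2, 0, 2, 0, 2, 0, 2, 2, 0, 0, 0, 3, 0, 2, 3, 0, 3, 3, 2, 1, 1, 0, 0, 0, 3, 0, 0, 0, 0, 1, 3, 0, 0, 0, 0, 0, 0]),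
  ([false, false, false, false, true, true, false, false, false, false, false, false, false, false, false, false, false, false, false, false, true, false, true],
    [0, 0, 0, 0, 0, 0, 0, 0, 2, 2, 2, 2, 0, 0, 0, 0, 0, 0, 0, 0, 0, 0, 0, 0, 0, 0, 0, 0, 0, 0, 0, 0, 0, 0, 0, 0, 0, 0, 0, 0, 2, 2, 0, 0, 2, 2, 0, 0, 0, 0, 0, 0, 0, 0, 0, 0],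
    [0, 0, 0, 0, 0, 0, 0, 2, 2, 2, 2, 2, 2, 0, 0, 0, 0, 0, 0, 0, 0, 0, 0, 1, 2, 1, 1, 0, 1, 2, 2, 2, 2, 0, 2, 0, 1, 0, 0, 0, 0, 0, 2, 0, 0, 0, 0, 0, 0]),
  ([true, true, false, false, false, false, false, false, false, false, false, false, false, false, false, false, false, false, false, false, true, false, false, true],
    [2, 2, 2, 2, 0, 0, 0, 0, 0, 0, 0, 0, 0, 0, 0, 0, 0, 0, 0, 0, 0, 0, 0, 0, 0, 0, 0, 0, 0, 0, 0, 0, 0, 0, 0, 0, 0, 0, 0, 0, 2, 2, 0, 0, 0, 0, 2, 2, 0, 0, 0, 0, 0, 0, 0, 0],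
    [2, 2, 2, 0, 0, 0, 0, 0, 2, 0, 2, 0, 0, 0, 2, 0, 2, 0, 0, 2, 0, 0, 0, 2, 0, 1, 0, 0, 2, 1, 0, 3, 3, 0, 2, 0, 2, 0, 0, 0, 0, 1, 1, 0, 0, 0, 0, 0, 0]),
  ([true, false, false, false, true, false, false, false, true, false, false, false, true, false, false, false, true, false, false, false, true, false, false, false, true],
    [2, 2, 0, 0, 0, 0, 0, 0, 2, 2, 0, 0, 0, 0, 0, 0, 2, 2, 0, 0, 0, 0, 0, 0, 2, 2, 0, 0, 0, 0, 0, 0, 2, 2, 0, 0, 0, 0, 0, 0, 2, 2, 0, 0, 0, 0, 0, 0, 2, 2, 0, 0, 0, 0, 0, 0],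
    [2, 2, 0, 0, 0, 0, 0, 0, 0, 2, 2, 1, 0, 1, 1, 1, 1, 3, 0, 1, 0, 0, 0, 2, 0, 1, 2, 0, 3, 2, 1, 2, 2, 0, 0, 0, 2, 0, 0, 0, 0, 2, 2, 0, 0, 0, 0, 0, 0]),
  ([true, true, true, false, false, true, false, false, true, false, false, false, true, false, false, false, true, false, false, false, true, false, false, false, false, true],
    [2, 2, 2, 2, 2, 2, 0, 0, 0, 0, 2, 2, 0, 0, 0, 0, 2, 2, 0, 0, 0, 0, 0, 0, 2, 2, 0, 0, 0, 0, 0, 0, 2, 2, 0, 0, 0, 0, 0, 0, 2, 2, 0, 0, 0, 0, 0, 0, 0, 0, 2, 2, 0, 0, 0, 0],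
    [2, 2, 2, 0, 2, 0, 0, 2, 2, 0, 2, 1, 2, 3, 3, 3, 3, 3, 0, 3, 0, 0, 0, 3, 0, 3, 1, 0, 3, 0, 2, 1, 3, 0, 0, 0, 1, 0, 0, 0, 0, 2, 0, 0, 0, 0, 0, 0, 0]),
  ([true, true, true, false, true, false, false, false, true, false, false, false, true, false, false, false, true, false, false, false, true, false, false, false, false, false, true],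
    [2, 2, 2, 2, 2, 2, 0, 0, 2, 2, 0, 0, 0, 0, 0, 0, 2, 2, 0, 0, 0, 0, 0, 0, 2, 2, 0, 0, 0, 0, 0, 0, 2, 2, 0, 0, 0, 0, 0, 0, 2, 2, 0, 0, 0, 0, 0, 0, 0, 0, 0, 0, 2, 2, 0, 0],
    [2, 2, 2, 0, 2, 0, 0, 0, 0, 2, 0, 3, 0, 3, 3, 3, 3, 3, 0, 3, 0, 0, 0, 0, 2, 2, 0, 0, 0, 0, 2, 0, 2, 0, 1, 0, 0, 0, 0, 0, 0, 2, 3, 0, 0, 0, 0, 0, 0]),
  ([true, false, false, false, false, true, false, false, true, false, false, false, true, false, false, false, true, false, false, false, true, false, false, false, false, false, false, true],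
    [2, 2, 0, 0, 0, 0, 0, 0, 0, 0, 2, 2, 0, 0, 0, 0, 2, 2, 0, 0, 0, 0, 0, 0, 2, 2, 0, 0, 0, 0, 0, 0, 2, 2, 0, 0, 0, 0, 0, 0, 2, 2, 0, 0, 0, 0, 0, 0, 0, 0, 0, 0, 0, 0, 2, 2],
    [2, 2, 0, 0, 0, 0, 0, 0, 2, 0, 0, 1, 2, 3, 1, 3, 1, 3, 2, 1, 0, 0, 0, 1, 0, 2, 3, 0, 2, 2, 1, 3, 3, 0, 3, 0, 3, 0, 0, 0, 0, 2, 3, 0, 0, 0, 0, 0, 0])]

/-- Parity checks with members of the span giving them. -/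
def parB : List (List Bool × List Nat × List Nat) := [
  ([true, true, true, true],
    [2, 0, 2, 0, 2, 0, 0, 2, 0, 0, 0, 0, 0, 0, 0, 0, 0, 0, 0, 0, 2, 2, 2, 2, 0, 0, 2, 2, 2, 2, 0, 0, 0, 0, 2, 2, 0, 0, 2, 2, 0, 0, 0, 0, 2, 2, 2, 2, 2, 2, 2, 2, 0, 0, 0, 0],
    [2, 0, 0, 0, 0, 0, 2, 0, 0, 0, 0, 2, 0, 0, 2, 0, 2, 2, 0, 0, 2, 0, 0, 1, 0, 2, 2, 2, 0, 0, 0, 0, 0, 0, 0, 0, 0, 2, 0, 0, 0, 0, 0, 0, 0, 0, 0, 0, 0]),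
  ([true, false, true, false, false, true, true],
    [0, 2, 2, 2, 2, 0, 2, 2, 2, 2, 2, 0, 2, 0, 0, 0, 2, 2, 0, 0, 2, 2, 2, 2, 2, 2, 2, 2, 2, 2, 2, 2, 0, 0, 0, 0, 2, 2, 0, 0, 2, 2, 2, 2, 2, 2, 0, 0, 0, 0, 2, 2, 2, 2, 2, 2],
    [0, 2, 0, 2, 2, 2, 2, 2, 2, 2, 0, 3, 0, 1, 3, 1, 3, 3, 0, 0, 2, 0, 0, 2, 0, 2, 2, 2, 0, 0, 0, 0, 0, 0, 0, 0, 0, 2, 0, 0, 0, 0, 0, 0, 0, 0, 0, 0, 0]),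
  ([true, false, true, false, true, false, false, true],
    [0, 2, 2, 2, 0, 2, 0, 0, 2, 0, 0, 0, 2, 2, 0, 2, 0, 0, 2, 2, 2, 2, 2, 2, 0, 0, 0, 0, 0, 0, 0, 0, 2, 2, 2, 2, 0, 0, 2, 2, 0, 0, 0, 0, 0, 0, 2, 2, 2, 2, 2, 2, 0, 0, 2, 2],
    [0, 2, 0, 2, 0, 2, 0, 2, 0, 0, 0, 1, 0, 1, 1, 1, 1, 3, 0, 0, 2, 0, 0, 1, 0, 2, 2, 2, 0, 0, 0, 0, 0, 0, 0, 0, 0, 2, 0, 0, 0, 0, 0, 0, 0, 0, 0, 0, 0]),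
  ([false, true, true, false, false, false, false, false, true, true],
    [2, 2, 2, 0, 2, 0, 2, 2, 0, 0, 2, 2, 2, 2, 2, 2, 0, 2, 0, 2, 0, 0, 0, 0, 2, 2, 2, 2, 2, 2, 0, 0, 2, 2, 2, 2, 0, 0, 2, 2, 2, 2, 2, 2, 0, 0, 2, 2, 0, 0, 2, 2, 0, 0, 2, 2],
    [2, 2, 2, 2, 0, 0, 2, 0, 0, 0, 0, 3, 0, 2, 2, 3, 3, 0, 0, 0, 0, 2, 0, 2, 0, 2, 2, 0, 0, 0, 0, 0, 0, 0, 0, 0, 0, 2, 0, 0, 0, 0, 0, 0, 0, 0, 0, 0, 0]),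
  ([true, true, false, false, true, true, false, false, true, false, true],
    [0, 2, 2, 0, 2, 2, 0, 0, 2, 0, 2, 0, 2, 2, 0, 0, 0, 2, 0, 0, 2, 0, 2, 2, 0, 0, 0, 0, 0, 0, 0, 0, 2, 2, 0, 0, 2, 2, 0, 0, 2, 2, 0, 0, 2, 2, 2, 2, 2, 2, 2, 2, 2, 2, 2, 2],
    [0, 2, 0, 0, 0, 2, 0, 2, 0, 0, 0, 0, 0, 2, 0, 2, 0, 2, 0, 0, 0, 2, 0, 0, 0, 3, 1, 3, 0, 0, 0, 0, 0, 0, 0, 0, 0, 1, 0, 0, 0, 0, 0, 0, 0, 0, 0, 0, 0]),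
  ([true, false, true, false, true, true, false, false, true, false, false, true],
    [2, 0, 0, 0, 0, 2, 2, 2, 2, 0, 0, 2, 0, 0, 2, 2, 0, 2, 0, 0, 0, 0, 2, 0, 2, 2, 2, 2, 2, 2, 0, 0, 0, 0, 2, 2, 2, 2, 2, 2, 0, 0, 0, 0, 0, 0, 0, 0, 0, 0, 0, 0, 0, 0, 0, 0],
    [2, 0, 2, 2, 0, 2, 2, 2, 0, 0, 0, 3, 0, 0, 2, 1, 3, 0, 0, 0, 0, 0, 0, 1, 0, 3, 3, 3, 0, 0, 0, 0, 0, 0, 0, 0, 0, 3, 0, 0, 0, 0, 0, 0, 0, 0, 0, 0, 0]),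
  ([true, false, true, false, false, false, false, false, false, false, false, false, true, true],
    [2, 0, 0, 0, 2, 0, 0, 0, 2, 2, 2, 2, 0, 0, 0, 0, 2, 2, 2, 2, 0, 0, 2, 2, 2, 0, 0, 2, 0, 0, 0, 0, 0, 0, 2, 2, 0, 0, 0, 0, 0, 0, 0, 0, 0, 0, 2, 2, 2, 2, 0, 0, 2, 2, 2, 2],
    [2, 0, 2, 2, 2, 2, 0, 0, 2, 2, 0, 1, 0, 1, 3, 3, 1, 1, 0, 0, 2, 3, 0, 2, 0, 3, 3, 0, 0, 0, 0, 1, 0, 0, 0, 0, 0, 2, 0, 0, 0, 0, 0, 0, 0, 0, 0, 0, 0]),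
  ([false, true, true, false, true, true, false, false, false, false, false, false, true, false, true],
    [0, 0, 0, 2, 2, 0, 0, 0, 0, 2, 0, 2, 2, 2, 2, 2, 0, 0, 2, 2, 2, 2, 0, 0, 0, 2, 2, 2, 0, 2, 2, 2, 0, 0, 0, 0, 2, 2, 2, 2, 0, 0, 0, 0, 0, 0, 0, 0, 2, 2, 2, 2, 0, 0, 0, 0],
    [0, 0, 0, 2, 0, 0, 0, 2, 0, 2, 0, 2, 0, 0, 2, 0, 2, 0, 0, 0, 3, 0, 0, 1, 0, 3, 0, 3, 0, 0, 0, 0, 0, 0, 0, 0, 0, 0, 0, 0, 0, 0, 0, 0, 0, 0, 0, 0, 0]),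
  ([true, true, false, false, true, true, false, false, false, false, false, false, true, false, false, true],
    [0, 2, 0, 2, 0, 0, 2, 2, 2, 0, 2, 0, 2, 2, 2, 2, 2, 2, 2, 2, 2, 2, 0, 0, 0, 2, 2, 2, 2, 2, 0, 2, 2, 2, 2, 2, 2, 2, 0, 0, 0, 0, 0, 0, 2, 2, 0, 0, 2, 2, 0, 0, 2, 2, 2, 2],
    [0, 2, 2, 0, 2, 2, 2, 0, 2, 0, 0, 3, 0, 3, 1, 1, 3, 1, 0, 0, 1, 3, 0, 0, 0, 2, 1, 1, 0, 0, 0, 1, 0, 0, 0, 0, 0, 0, 0, 0, 0, 0, 0, 0, 0, 0, 0, 0, 0]),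
  ([true, false, true, false, true, true, false, false, false, false, false, false, false, false, false, false, true, true],
    [2, 0, 2, 2, 0, 2, 2, 2, 2, 0, 0, 2, 0, 0, 2, 2, 0, 0, 0, 0, 0, 0, 0, 0, 2, 2, 0, 0, 2, 2, 0, 0, 0, 2, 2, 0, 2, 2, 2, 2, 2, 2, 2, 2, 0, 0, 2, 2, 2, 2, 0, 0, 0, 0, 0, 0],
    [2, 0, 0, 2, 0, 2, 2, 0, 0, 0, 0, 2, 0, 1, 2, 1, 2, 0, 0, 0, 3, 0, 0, 2, 0, 2, 0, 2, 0, 0, 0, 2, 0, 0, 0, 0, 0, 2, 0, 0, 0, 0, 0, 0, 0, 0, 0, 0, 0]),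
  ([true, true, false, false, false, false, false, false, false, false, false, false, false, false, false, false, true, false, true],
    [0, 2, 2, 0, 2, 2, 0, 0, 2, 2, 0, 0, 2, 2, 0, 0, 0, 0, 2, 2, 0, 0, 2, 2, 0, 0, 2, 2, 2, 2, 0, 0, 0, 2, 2, 2, 2, 0, 2, 2, 0, 0, 2, 2, 0, 0, 0, 0, 0, 0, 0, 0, 2, 2, 2, 2],
    [0, 2, 0, 0, 0, 2, 0, 2, 0, 2, 0, 2, 0, 3, 2, 3, 2, 2, 0, 0, 0, 2, 0, 1, 0, 1, 0, 0, 0, 0, 0, 2, 0, 0, 0, 0, 0, 2, 0, 0, 0, 0, 0, 0, 0, 0, 0, 0, 0]),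
  ([false, true, true, false, true, true, false, false, false, false, false, false, false, false, false, false, true, false, false, true],
    [2, 2, 0, 2, 2, 0, 2, 2, 0, 2, 0, 2, 2, 2, 2, 2, 0, 0, 0, 0, 2, 2, 2, 2, 2, 2, 2, 2, 0, 0, 0, 0, 0, 2, 2, 2, 2, 2, 2, 0, 2, 2, 0, 0, 2, 2, 0, 0, 0, 0, 2, 2, 2, 2, 2, 2],
    [2, 2, 0, 2, 0, 0, 2, 0, 0, 2, 0, 2, 0, 0, 2, 0, 2, 0, 0, 0, 3, 0, 0, 2, 0, 1, 0, 2, 0, 0, 0, 2, 0, 0, 0, 0, 0, 2, 0, 0, 0, 0, 0, 0, 0, 0, 0, 0, 0]),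
  ([true, true, false, false, true, true, false, false, false, false, false, false, false, false, false, false, false, false, false, false, true, true],
    [0, 2, 0, 2, 2, 2, 0, 0, 2, 0, 2, 0, 2, 2, 2, 2, 2, 2, 2, 2, 0, 0, 0, 0, 2, 2, 2, 2, 0, 0, 0, 0, 0, 0, 2, 2, 0, 0, 0, 0, 0, 2, 2, 0, 2, 2, 0, 0, 2, 2, 2, 2, 2, 2, 0, 0],
    [0, 2, 2, 0, 0, 2, 0, 0, 0, 0, 0, 3, 0, 3, 3, 3, 3, 3, 0, 0, 0, 0, 0, 1, 0, 1, 0, 3, 0, 0, 0, 3, 0, 0, 0, 0, 0, 1, 0, 0, 0, 0, 0, 0, 0, 0, 0, 0, 0]),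
  ([false, false, false, false, true, true, false, false, false, false, false, false, false, false, false, false, false, false, false, false, true, false, true],
    [2, 2, 2, 2, 2, 2, 0, 0, 0, 2, 2, 0, 0, 0, 0, 0, 0, 0, 2, 2, 2, 2, 2, 2, 0, 0, 2, 2, 0, 0, 0, 0, 2, 2, 2, 2, 2, 2, 0, 0, 2, 0, 2, 2, 2, 0, 2, 2, 2, 2, 0, 0, 2, 2, 0, 0],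
    [2, 2, 2, 0, 2, 0, 0, 2, 2, 2, 0, 1, 0, 0, 2, 3, 1, 0, 0, 0, 2, 0, 0, 0, 0, 0, 2, 1, 0, 0, 0, 0, 0, 0, 0, 0, 0, 2, 0, 0, 0, 0, 0, 0, 0, 0, 0, 0, 0]),
  ([true, true, false, false, false, false, false, false, false, false, false, false, false, false, false, false, false, false, false, false, true, false, false, true],
    [0, 2, 2, 0, 2, 2, 0, 0, 2, 2, 0, 0, 2, 2, 2, 2, 2, 2, 0, 0, 0, 0, 0, 0, 0, 0, 2, 2, 0, 0, 0, 0, 0, 0, 0, 0, 0, 0, 0, 0, 2, 0, 0, 0, 0, 0, 0, 2, 2, 2, 0, 0, 2, 2, 2, 2],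
    [0, 2, 0, 0, 0, 2, 0, 2, 0, 2, 0, 2, 0, 3, 1, 0, 2, 3, 0, 0, 2, 0, 0, 0, 0, 1, 2, 2, 0, 0, 0, 3, 0, 0, 0, 0, 0, 3, 0, 0, 0, 0, 0, 0, 0, 0, 0, 0, 0]),
  ([false, true, true, false, true, true, false, false, false, false, false, false, false, false, false, false, false, false, false, false, false, false, false, false, true, true],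
    [2, 2, 0, 2, 2, 0, 2, 2, 0, 2, 0, 2, 2, 2, 2, 2, 0, 0, 2, 2, 0, 0, 2, 2, 2, 2, 0, 0, 0, 0, 0, 0, 0, 0, 2, 2, 0, 0, 0, 0, 2, 2, 0, 0, 0, 0, 2, 2, 0, 2, 2, 0, 2, 2, 0, 0],
    [2, 2, 0, 2, 0, 0, 2, 2, 0, 2, 0, 2, 0, 0, 0, 2, 2, 2, 0, 0, 3, 0, 0, 2, 0, 1, 3, 2, 0, 0, 0, 1, 0, 0, 0, 0, 0, 2, 0, 0, 0, 0, 0, 0, 0, 0, 0, 0, 0]),
  ([false, true, true, false, false, false, false, false, false, false, false, false, false, false, false, false, false, false, false, false, false, false, false, false, true, false, true],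
    [0, 0, 2, 0, 2, 0, 0, 0, 0, 0, 2, 2, 2, 2, 0, 0, 2, 2, 0, 0, 2, 2, 2, 2, 0, 0, 2, 2, 0, 0, 2, 2, 2, 2, 0, 0, 0, 0, 2, 2, 0, 0, 0, 0, 2, 2, 2, 2, 2, 0, 2, 2, 2, 0, 2, 2],
    [0, 0, 2, 2, 0, 0, 0, 2, 0, 0, 0, 1, 0, 0, 1, 0, 1, 3, 0, 0, 2, 3, 0, 2, 0, 1, 1, 2, 0, 0, 0, 0, 0, 0, 0, 0, 0, 1, 0, 0, 0, 0, 0, 0, 0, 0, 0, 0, 0]),
  ([false, false, false, false, true, true, false, false, false, false, false, false, false, false, false, false, false, false, false, false, false, false, false, false, true, false, false, true],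
    [0, 0, 2, 2, 2, 2, 2, 2, 0, 2, 2, 0, 0, 0, 2, 2, 2, 2, 0, 0, 2, 2, 2, 2, 0, 0, 0, 0, 0, 0, 2, 2, 2, 2, 0, 0, 2, 2, 2, 2, 0, 0, 0, 0, 0, 0, 0, 0, 2, 0, 0, 0, 0, 0, 0, 2],
    [0, 0, 2, 0, 2, 0, 2, 2, 2, 2, 0, 1, 0, 0, 3, 2, 1, 3, 0, 0, 1, 1, 0, 1, 0, 0, 2, 0, 0, 0, 0, 1, 0, 0, 0, 0, 0, 1, 0, 0, 0, 0, 0, 0, 0, 0, 0, 0, 0])]

/-- Parity checks with members of the span giving them. -/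
def parC : List (List Bool × List Nat × List Nat) := [
  ([true, true, true, true],
    [1, 1, 1, 1, 3, 1, 1, 3, 2, 0, 2, 0, 2, 0, 2, 2, 0, 2, 0, 2, 2, 0, 2, 2, 0, 2, 0, 0, 2, 0, 0, 2, 2, 2, 2, 0, 0, 2, 0, 2, 0, 2, 0, 2, 2, 0, 2, 2, 0, 2, 2, 2, 2, 2, 2, 2],
    [1, 1, 1, 0, 1, 0, 3, 2, 2, 0, 1, 1, 2, 3, 1, 0, 0, 0, 0, 0, 0, 0, 0, 0, 2, 0, 3, 0, 0, 0, 0, 0, 0, 0, 0, 0, 0, 0, 0, 0, 0, 0, 0, 0, 0, 0, 0, 0, 0]),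
  ([false, false, false, false, true, true, true, true],
    [0, 0, 0, 0, 0, 0, 0, 2, 3, 1, 3, 1, 3, 3, 3, 3, 0, 0, 2, 0, 2, 2, 2, 2, 0, 2, 0, 2, 0, 0, 0, 2, 2, 0, 2, 2, 0, 2, 0, 2, 0, 2, 0, 0, 2, 2, 2, 2, 0, 2, 2, 2, 2, 2, 0, 0],
    [0, 0, 0, 0, 0, 0, 0, 3, 1, 1, 1, 0, 0, 0, 0, 0, 0, 0, 1, 0, 0, 0, 0, 0, 0, 0, 2, 0, 0, 0, 0, 0, 0, 0, 0, 0, 0, 0, 0, 0, 0, 0, 0, 0, 0, 0, 0, 0, 0]),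
  ([false, false, false, false, false, false, false, false, true, true, true, true],
    [0, 0, 0, 0, 0, 0, 0, 2, 2, 0, 2, 0, 0, 0, 2, 0, 3, 3, 1, 1, 1, 1, 3, 3, 2, 0, 2, 2, 0, 2, 0, 2, 0, 0, 2, 2, 2, 2, 0, 2, 2, 0, 0, 0, 0, 0, 0, 0, 2, 2, 0, 2, 2, 2, 0, 0],
    [0, 0, 0, 0, 0, 0, 0, 1, 0, 0, 0, 2, 0, 0, 1, 0, 0, 0, 3, 0, 0, 0, 0, 0, 1, 0, 0, 0, 0, 0, 0, 0, 0, 0, 0, 0, 0, 0, 0, 0, 0, 0, 0, 0, 0, 0, 0, 0, 0]),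
  ([false, false, false, false, false, false, false, false, false, false, false, false, true, true, true, true],
    [0, 0, 0, 0, 0, 0, 0, 2, 2, 0, 2, 2, 2, 0, 0, 2, 0, 0, 2, 0, 2, 2, 0, 0, 3, 3, 3, 3, 1, 3, 3, 1, 2, 0, 2, 2, 0, 2, 2, 0, 0, 0, 2, 2, 0, 0, 2, 0, 0, 2, 0, 0, 0, 0, 2, 2],
    [0, 0, 0, 0, 0, 0, 0, 3, 0, 0, 0, 3, 0, 3, 0, 1, 0, 0, 1, 0, 0, 0, 0, 0, 0, 0, 0, 0, 0, 0, 0, 0, 0, 0, 0, 0, 0, 0, 0, 0, 0, 0, 0, 0, 0, 0, 0, 0, 0]),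
  ([false, false, false, false, false, false, false, false, false, false, false, false, false, false, false, false, true, true, true, true],
    [0, 0, 0, 0, 0, 0, 0, 2, 2, 0, 2, 2, 2, 0, 0, 2, 0, 0, 2, 0, 2, 2, 0, 0, 2, 2, 2, 0, 2, 0, 0, 2, 3, 3, 1, 1, 3, 1, 1, 3, 2, 2, 0, 2, 0, 0, 2, 2, 0, 0, 2, 2, 0, 2, 0, 0],
    [0, 0, 0, 0, 0, 0, 0, 1, 0, 0, 0, 1, 0, 1, 0, 3, 0, 0, 3, 0, 0, 0, 0, 0, 1, 0, 1, 0, 0, 0, 0, 0, 0, 0, 0, 0, 0, 0, 0, 0, 0, 0, 0, 0, 0, 0, 0, 0, 0]),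
  ([false, true, true, false, true, true, false, false, true, true, false, false, true, false, true, false, false, true, true, false, true, false, true],
    [0, 0, 1, 1, 3, 1, 0, 0, 3, 1, 3, 1, 0, 0, 2, 2, 1, 1, 3, 1, 2, 2, 0, 0, 3, 1, 0, 2, 3, 3, 2, 2, 2, 2, 3, 3, 3, 1, 2, 0, 1, 1, 2, 0, 1, 1, 0, 0, 0, 2, 0, 2, 0, 2, 0, 0],
    [0, 0, 1, 0, 1, 0, 2, 1, 3, 1, 2, 3, 1, 2, 2, 1, 0, 0, 0, 0, 0, 0, 0, 0, 3, 0, 1, 0, 0, 0, 0, 0, 0, 0, 0, 0, 0, 0, 0, 0, 0, 0, 0, 0, 0, 0, 0, 0, 0]),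
  ([false, true, true, false, true, true, false, false, true, true, false, false, true, false, true, false, false, true, true, false, false, true, false, true],
    [0, 0, 1, 1, 3, 1, 0, 2, 1, 1, 1, 3, 2, 2, 2, 2, 1, 1, 3, 1, 0, 0, 0, 2, 3, 3, 2, 2, 1, 1, 2, 0, 2, 0, 1, 1, 1, 1, 0, 0, 2, 0, 3, 3, 0, 2, 3, 1, 2, 2, 2, 0, 0, 0, 2, 0],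
    [0, 0, 1, 0, 1, 0, 2, 0, 3, 1, 2, 2, 1, 0, 2, 3, 0, 0, 1, 0, 0, 0, 0, 0, 2, 0, 0, 0, 0, 0, 0, 0, 0, 0, 0, 0, 0, 0, 0, 0, 0, 0, 0, 0, 0, 0, 0, 0, 0]),
  ([true, false, true, false, false, true, true, false, true, false, true, false, false, false, false, false, false, true, true, false, true, true, false, false, true, true],
    [1, 1, 0, 0, 1, 1, 0, 0, 2, 0, 1, 1, 1, 1, 0, 2, 3, 3, 0, 0, 3, 3, 2, 0, 0, 0, 0, 2, 2, 2, 2, 2, 0, 0, 3, 3, 3, 1, 2, 2, 3, 1, 3, 3, 0, 2, 2, 2, 1, 3, 3, 1, 0, 0, 0, 2],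
    [1, 1, 0, 0, 1, 0, 2, 3, 1, 0, 1, 0, 2, 2, 1, 2, 0, 0, 2, 0, 0, 0, 0, 0, 0, 0, 0, 0, 0, 0, 0, 0, 0, 0, 0, 0, 0, 0, 0, 0, 0, 0, 0, 0, 0, 0, 0, 0, 0]),
  ([false, true, true, false, true, false, true, false, false, false, false, false, false, true, true, false, true, true, false, false, true, true, false, false, true, false, true],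
    [0, 0, 1, 1, 3, 1, 0, 2, 1, 1, 0, 0, 1, 3, 0, 0, 2, 2, 0, 0, 0, 0, 2, 0, 0, 2, 1, 3, 1, 1, 0, 2, 1, 3, 1, 1, 2, 0, 0, 0, 1, 1, 3, 1, 0, 2, 2, 0, 1, 1, 2, 2, 1, 3, 0, 2],
    [0, 0, 1, 0, 1, 0, 2, 0, 3, 1, 1, 1, 1, 1, 1, 2, 0, 0, 1, 0, 0, 0, 0, 0, 0, 0, 1, 0, 0, 0, 0, 0, 0, 0, 0, 0, 0, 0, 0, 0, 0, 0, 0, 0, 0, 0, 0, 0, 0]),
  ([true, true, false, false, true, true, false, false, true, false, true, false, false, true, true, false, true, false, true, false, false, false, false, false, true, false, false, true],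
    [1, 1, 1, 1, 2, 0, 2, 2, 1, 1, 3, 3, 2, 2, 2, 2, 1, 1, 0, 2, 1, 1, 2, 2, 2, 0, 3, 1, 3, 1, 2, 2, 3, 3, 0, 0, 1, 3, 2, 0, 2, 0, 2, 2, 0, 2, 0, 0, 1, 3, 2, 0, 2, 0, 3, 3],
    [1, 1, 1, 0, 0, 0, 2, 0, 2, 1, 2, 0, 1, 0, 2, 3, 0, 0, 2, 0, 0, 0, 0, 0, 1, 0, 1, 0, 0, 0, 0, 0, 0, 0, 0, 0, 0, 0, 0, 0, 0, 0, 0, 0, 0, 0, 0, 0, 0])]

/-- Words of weight eight with obstructions. -/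
def wordsA : List (List Bool × List Nat × List Nat) := [
  ([true, true, true, true, true, true, true, true, false, false, false, false, false, false, false, false, false, false, false, false, false, false, false, false, false, false, false, false],
    [0, 0, 2, 2, 0, 0, 0, 0, 0, 0, 0, 0, 0, 0, 0, 0, 1, 2, 3, 2, 0, 1, 1, 0, 2, 2, 0, 0, 2, 0, 2, 0, 1, 0, 2, 1, 3, 0, 1, 2, 1, 0, 3, 0, 3, 0, 0, 3, 2, 1, 1, 0, 1, 0, 3, 2],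
    [0, 0, 2, 0, 0, 0, 0, 0, 0, 0, 0, 3, 0, 1, 0, 0, 0, 0, 0, 0, 0, 0, 0, 0, 0, 0, 0, 0, 0, 0, 0, 0, 0, 0, 0, 0, 0, 0, 0, 0, 0, 0, 0, 0, 0, 0, 0, 0, 0]),
  ([true, true, true, true, false, false, false, false, true, true, true, true, false, false, false, false, false, false, false, false, false, false, false, false, false, false, false, false],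
    [2, 2, 2, 2, 2, 2, 0, 0, 1, 0, 1, 2, 2, 1, 3, 0, 2, 2, 2, 2, 2, 2, 2, 2, 3, 2, 2, 1, 1, 0, 1, 0, 2, 1, 0, 3, 2, 1, 3, 0, 3, 0, 2, 1, 2, 3, 0, 1, 0, 2, 0, 0, 0, 2, 0, 0],
    [2, 2, 2, 0, 2, 0, 0, 0, 3, 0, 0, 0, 0, 1, 0, 0, 0, 0, 0, 0, 0, 0, 0, 0, 0, 0, 0, 0, 0, 0, 0, 0, 0, 0, 0, 0, 0, 0, 0, 0, 0, 0, 0, 0, 0, 0, 0, 0, 0]),
  ([false, false, false, false, true, true, true, true, true, true, true, true, false, false, false, false, false, false, false, false, false, false, false, false, false, false, false, false],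
    [3, 0, 2, 1, 2, 1, 0, 3, 0, 0, 2, 2, 0, 0, 0, 0, 0, 0, 0, 0, 0, 0, 0, 0, 2, 1, 0, 3, 1, 0, 0, 1, 3, 1, 1, 1, 1, 3, 1, 3, 3, 2, 2, 1, 3, 0, 1, 2, 0, 3, 2, 3, 0, 3, 3, 2],
    [3, 0, 3, 2, 3, 2, 1, 3, 0, 0, 3, 3, 0, 2, 3, 0, 3, 0, 1, 0, 0, 0, 0, 0, 0, 0, 0, 0, 0, 0, 0, 0, 0, 0, 0, 0, 0, 0, 0, 0, 0, 0, 0, 0, 0, 0, 0, 0, 0]),
  ([true, true, true, true, false, false, false, false, false, false, false, false, true, true, true, true, false, false, false, false, false, false, false, false, false, false, false, false],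
    [0, 0, 2, 2, 2, 2, 0, 0, 0, 0, 2, 0, 0, 2, 0, 0, 1, 2, 3, 2, 0, 3, 3, 0, 0, 0, 0, 0, 2, 2, 0, 0, 1, 2, 2, 1, 3, 2, 1, 2, 3, 2, 3, 2, 1, 0, 0, 3, 0, 1, 1, 0, 3, 0, 1, 0],
    [0, 0, 2, 0, 2, 0, 0, 0, 0, 0, 0, 3, 0, 1, 0, 0, 0, 0, 0, 0, 0, 0, 0, 0, 0, 0, 0, 0, 0, 0, 0, 0, 0, 0, 0, 0, 0, 0, 0, 0, 0, 0, 0, 0, 0, 0, 0, 0, 0]),
  ([false, false, false, false, true, true, true, true, false, false, false, false, true, true, true, true, false, false, false, false, false, false, false, false, false, false, false, false],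
    [1, 1, 1, 1, 1, 3, 1, 3, 0, 0, 2, 2, 2, 2, 0, 0, 0, 3, 0, 1, 0, 3, 1, 0, 2, 2, 0, 0, 0, 0, 0, 0, 3, 1, 2, 0, 1, 3, 2, 2, 1, 3, 0, 0, 0, 0, 1, 3, 1, 2, 3, 0, 0, 3, 1, 0],
    [1, 1, 1, 0, 3, 0, 3, 0, 0, 0, 1, 0, 0, 0, 0, 0, 0, 0, 0, 0, 0, 0, 0, 0, 0, 0, 0, 0, 0, 0, 0, 0, 0, 0, 0, 0, 0, 0, 0, 0, 0, 0, 0, 0, 0, 0, 0, 0, 0]),
  ([false, false, false, false, false, false, false, false, true, true, true, true, true, true, true, true, false, false, false, false, false, false, false, false, false, false, false, false],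
    [3, 0, 3, 0, 2, 1, 3, 2, 0, 0, 0, 2, 1, 3, 3, 1, 0, 0, 0, 0, 0, 0, 0, 0, 0, 0, 2, 2, 0, 0, 0, 0, 2, 3, 3, 0, 1, 0, 1, 0, 1, 3, 1, 3, 1, 3, 3, 1, 1, 3, 0, 0, 2, 2, 1, 1],
    [3, 0, 0, 0, 3, 2, 0, 3, 1, 0, 0, 3, 1, 0, 0, 0, 0, 0, 0, 0, 0, 0, 0, 0, 0, 0, 0, 0, 0, 0, 0, 0, 0, 0, 0, 0, 0, 0, 0, 0, 0, 0, 0, 0, 0, 0, 0, 0, 0]),
  ([true, true, true, true, false, false, false, false, false, false, false, false, false, false, false, false, true, true, true, true, false, false, false, false, false, false, false, false],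
    [0, 0, 2, 2, 0, 0, 0, 0, 0, 1, 3, 2, 2, 1, 0, 3, 3, 2, 3, 2, 3, 0, 0, 1, 1, 0, 0, 1, 2, 1, 2, 1, 0, 0, 0, 0, 0, 0, 0, 0, 0, 2, 0, 0, 0, 0, 0, 2, 1, 2, 1, 0, 2, 1, 3, 0],
    [0, 0, 2, 0, 0, 0, 0, 0, 0, 1, 0, 0, 0, 0, 0, 0, 0, 0, 0, 0, 0, 0, 0, 0, 0, 0, 0, 0, 0, 0, 0, 0, 0, 0, 0, 0, 0, 0, 0, 0, 0, 0, 0, 0, 0, 0, 0, 0, 0]),
  ([false, false, false, false, true, true, true, true, false, false, false, false, false, false, false, false, true, true, true, true, false, false, false, false, false, false, false, false],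
    [2, 0, 0, 0, 2, 0, 0, 0, 0, 0, 2, 2, 0, 0, 0, 0, 1, 3, 3, 1, 3, 3, 3, 1, 2, 2, 0, 0, 2, 2, 0, 0, 0, 0, 2, 2, 0, 0, 2, 2, 2, 2, 2, 2, 2, 0, 0, 2, 3, 1, 3, 3, 3, 1, 3, 1],
    [2, 0, 2, 2, 2, 2, 0, 0, 0, 0, 0, 3, 0, 1, 0, 0, 0, 3, 0, 0, 0, 1, 0, 0, 0, 0, 0, 0, 0, 0, 0, 0, 0, 0, 0, 0, 0, 0, 0, 0, 0, 0, 0, 0, 0, 0, 0, 0, 0]),
  ([false, false, false, false, false, false, false, false, true, true, true, true, false, false, false, false, true, true, true, true, false, false, false, false, false, false, false, false],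
    [0, 0, 2, 0, 0, 0, 2, 0, 3, 3, 1, 3, 3, 3, 1, 1, 0, 0, 0, 0, 0, 0, 0, 0, 3, 3, 3, 1, 3, 3, 3, 3, 2, 2, 0, 0, 0, 0, 0, 0, 0, 0, 2, 0, 0, 0, 2, 0, 0, 0, 2, 0, 2, 0, 0, 0],
    [0, 0, 2, 2, 2, 2, 0, 0, 1, 3, 1, 3, 0, 0, 0, 0, 0, 0, 0, 0, 0, 1, 0, 0, 0, 0, 0, 0, 0, 0, 0, 0, 0, 0, 0, 0, 0, 0, 0, 0, 0, 0, 0, 0, 0, 0, 0, 0, 0]),
  ([false, false, false, false, false, false, false, false, false, false, false, false, true, true, true, true, true, true, true, true, false, false, false, false, false, false, false, false],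
    [0, 2, 3, 3, 3, 3, 0, 2, 3, 0, 1, 2, 0, 1, 3, 0, 2, 0, 0, 0, 3, 3, 1, 1, 0, 0, 2, 2, 2, 2, 0, 0, 2, 2, 2, 2, 0, 0, 2, 2, 1, 0, 0, 3, 0, 1, 0, 3, 3, 3, 3, 1, 3, 3, 3, 1],
    [0, 2, 1, 2, 1, 2, 2, 0, 3, 0, 1, 3, 0, 0, 1, 0, 0, 0, 0, 0, 0, 0, 0, 0, 0, 0, 0, 0, 0, 0, 0, 0, 0, 0, 0, 0, 0, 0, 0, 0, 0, 0, 0, 0, 0, 0, 0, 0, 0]),
  ([true, true, true, true, false, false, false, false, false, false, false, false, false, false, false, false, false, false, false, false, true, true, true, true, false, false, false, false],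
    [2, 2, 2, 2, 0, 0, 0, 0, 2, 1, 3, 2, 2, 1, 2, 3, 1, 2, 1, 2, 3, 0, 0, 1, 3, 0, 2, 1, 0, 3, 2, 1, 2, 0, 0, 0, 2, 0, 0, 0, 2, 2, 2, 2, 0, 0, 2, 2, 3, 2, 1, 0, 0, 1, 1, 2],
    [2, 2, 2, 0, 0, 0, 0, 0, 0, 1, 0, 0, 0, 0, 0, 0, 0, 0, 0, 0, 0, 0, 0, 0, 0, 0, 0, 0, 0, 0, 0, 0, 0, 0, 0, 0, 0, 0, 0, 0, 0, 0, 0, 0, 0, 0, 0, 0, 0]),
  ([false, false, false, false, true, true, true, true, false, false, false, false, false, false, false, false, false, false, false, false, true, true, true, true, false, false, false, false],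
    [0, 0, 3, 1, 1, 1, 2, 0, 0, 0, 2, 2, 2, 2, 0, 0, 0, 2, 0, 2, 1, 3, 1, 1, 3, 0, 2, 1, 3, 0, 1, 0, 0, 3, 0, 3, 2, 1, 1, 2, 2, 2, 2, 2, 0, 0, 2, 2, 3, 1, 3, 1, 1, 1, 3, 3],
    [0, 0, 3, 2, 1, 0, 0, 0, 0, 0, 3, 1, 0, 3, 1, 0, 0, 0, 0, 0, 0, 0, 0, 0, 0, 0, 0, 0, 0, 0, 0, 0, 0, 0, 0, 0, 0, 0, 0, 0, 0, 0, 0, 0, 0, 0, 0, 0, 0]),
  ([false, false, false, false, false, false, false, false, true, true, true, true, false, false, false, false, false, false, false, false, true, true, true, true, false, false, false, false],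
    [1, 0, 0, 1, 3, 2, 3, 0, 0, 1, 0, 1, 2, 3, 3, 2, 2, 2, 2, 2, 2, 2, 2, 2, 3, 3, 3, 1, 3, 1, 1, 1, 1, 3, 0, 2, 2, 0, 1, 1, 2, 2, 2, 2, 2, 2, 0, 0, 1, 1, 3, 1, 2, 2, 0, 2],
    [1, 0, 3, 2, 2, 0, 2, 1, 3, 1, 0, 0, 3, 0, 1, 0, 0, 0, 0, 0, 0, 0, 0, 0, 0, 0, 0, 0, 0, 0, 0, 0, 0, 0, 0, 0, 0, 0, 0, 0, 0, 0, 0, 0, 0, 0, 0, 0, 0]),
  ([false, false, false, false, false, false, false, false, false, false, false, false, true, true, true, true, false, false, false, false, true, true, true, true, false, false, false, false],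
    [3, 3, 0, 2, 2, 0, 1, 1, 3, 0, 3, 0, 0, 1, 3, 0, 2, 2, 2, 2, 2, 2, 2, 0, 2, 2, 0, 0, 0, 0, 0, 0, 3, 0, 1, 2, 3, 0, 0, 1, 0, 0, 0, 0, 0, 0, 0, 0, 3, 1, 0, 0, 1, 1, 2, 2],
    [3, 3, 0, 2, 0, 0, 1, 0, 3, 0, 0, 3, 0, 1, 0, 0, 0, 0, 0, 0, 0, 0, 0, 0, 0, 0, 0, 0, 0, 0, 0, 0, 0, 0, 0, 0, 0, 0, 0, 0, 0, 0, 0, 0, 0, 0, 0, 0, 0]),
  ([false, false, false, false, false, false, false, false, false, false, false, false, false, false, false, false, true, true, true, true, true, true, true, true, false, false, false, false],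
    [0, 0, 0, 0, 0, 2, 2, 0, 2, 1, 1, 0, 2, 3, 0, 3, 3, 0, 1, 0, 1, 2, 2, 1, 1, 2, 0, 1, 0, 1, 2, 1, 2, 2, 2, 2, 2, 2, 0, 0, 2, 2, 0, 0, 0, 0, 2, 2, 3, 0, 1, 0, 0, 1, 1, 0],
    [0, 0, 0, 0, 0, 2, 0, 0, 0, 1, 0, 0, 0, 0, 0, 0, 0, 0, 0, 0, 0, 0, 0, 0, 0, 0, 0, 0, 0, 0, 0, 0, 0, 0, 0, 0, 0, 0, 0, 0, 0, 0, 0, 0, 0, 0, 0, 0, 0]),
  ([true, true, true, true, false, false, false, false, false, false, false, false, false, false, false, false, false, false, false, false, false, false, false, false, true, true, true, true],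
    [2, 2, 2, 2, 0, 0, 0, 0, 1, 0, 3, 2, 2, 3, 3, 0, 2, 2, 2, 2, 2, 0, 0, 2, 1, 0, 2, 1, 1, 2, 3, 0, 2, 3, 0, 3, 2, 3, 3, 0, 1, 2, 2, 3, 0, 3, 0, 1, 2, 2, 0, 0, 2, 2, 2, 2],
    [2, 2, 2, 0, 0, 0, 0, 0, 3, 0, 0, 0, 0, 1, 0, 0, 0, 0, 0, 0, 0, 0, 0, 0, 0, 0, 0, 0, 0, 0, 0, 0, 0, 0, 0, 0, 0, 0, 0, 0, 0, 0, 0, 0, 0, 0, 0, 0, 0]),
  ([false, false, false, false, true, true, true, true, false, false, false, false, false, false, false, false, false, false, false, false, false, false, false, false, true, true, true, true],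
    [2, 2, 0, 2, 2, 2, 2, 0, 0, 0, 0, 0, 2, 2, 0, 0, 0, 2, 0, 2, 2, 2, 2, 2, 0, 0, 0, 0, 0, 2, 2, 0, 1, 3, 3, 1, 1, 1, 3, 1, 3, 1, 3, 3, 1, 3, 1, 3, 0, 0, 0, 0, 2, 2, 2, 2],
    [2, 2, 0, 2, 0, 2, 0, 0, 0, 0, 0, 3, 0, 3, 0, 0, 1, 0, 0, 0, 0, 0, 0, 0, 0, 0, 0, 0, 0, 0, 0, 0, 0, 0, 0, 0, 0, 0, 0, 0, 0, 0, 0, 0, 0, 0, 0, 0, 0]),
  ([false, false, false, false, false, false, false, false, true, true, true, true, false, false, false, false, false, false, false, false, false, false, false, false, true, true, true, true],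
    [0, 0, 0, 2, 2, 0, 0, 0, 3, 0, 1, 2, 2, 3, 3, 0, 2, 2, 2, 2, 0, 0, 2, 2, 1, 0, 0, 1, 3, 0, 1, 0, 2, 3, 2, 3, 0, 3, 3, 0, 3, 2, 0, 1, 2, 3, 0, 1, 2, 2, 0, 0, 2, 2, 0, 0],
    [0, 0, 0, 2, 0, 0, 0, 0, 3, 0, 0, 0, 0, 1, 0, 0, 0, 0, 0, 0, 0, 0, 0, 0, 0, 0, 0, 0, 0, 0, 0, 0, 0, 0, 0, 0, 0, 0, 0, 0, 0, 0, 0, 0, 0, 0, 0, 0, 0]),
  ([false, false, false, false, false, false, false, false, false, false, false, false, true, true, true, true, false, false, false, false, false, false, false, false, true, true, true, true],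
    [2, 1, 3, 2, 1, 2, 1, 2, 0, 0, 3, 1, 0, 2, 3, 3, 2, 2, 3, 1, 3, 1, 2, 0, 2, 2, 0, 0, 2, 2, 0, 0, 0, 0, 0, 2, 2, 0, 2, 0, 3, 0, 2, 3, 3, 0, 3, 0, 0, 0, 0, 0, 2, 2, 0, 0],
    [2, 1, 2, 0, 0, 2, 2, 0, 2, 0, 3, 0, 3, 3, 0, 0, 1, 0, 0, 0, 0, 0, 0, 0, 0, 0, 0, 0, 0, 0, 0, 0, 0, 0, 0, 0, 0, 0, 0, 0, 0, 0, 0, 0, 0, 0, 0, 0, 0]),
  ([false, false, false, false, false, false, false, false, false, false, false, false, false, false, false, false, true, true, true, true, false, false, false, false, true, true, true, true],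
    [2, 0, 0, 0, 2, 2, 2, 0, 1, 1, 1, 3, 1, 3, 1, 3, 2, 0, 2, 0, 0, 0, 2, 2, 3, 1, 1, 3, 3, 1, 1, 1, 2, 2, 0, 0, 0, 0, 2, 2, 0, 0, 0, 2, 0, 2, 0, 0, 2, 2, 0, 0, 2, 2, 2, 2],
    [2, 0, 2, 2, 2, 0, 0, 0, 3, 1, 3, 0, 0, 3, 0, 0, 1, 0, 0, 0, 0, 0, 0, 0, 0, 0, 0, 0, 0, 0, 0, 0, 0, 0, 0, 0, 0, 0, 0, 0, 0, 0, 0, 0, 0, 0, 0, 0, 0]),
  ([false, false, false, false, false, false, false, false, false, false, false, false, false, false, false, false, false, false, false, false, true, true, true, true, true, true, true, true],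
    [2, 0, 2, 2, 0, 0, 2, 0, 2, 0, 2, 0, 0, 2, 0, 2, 0, 2, 0, 2, 0, 0, 0, 0, 2, 2, 0, 0, 0, 0, 0, 0, 0, 0, 2, 2, 2, 2, 2, 2, 2, 2, 2, 2, 2, 2, 0, 0, 0, 0, 0, 0, 2, 2, 2, 2],
    [2, 0, 0, 2, 0, 0, 0, 0, 0, 0, 0, 3, 0, 0, 0, 3, 1, 0, 0, 0, 0, 0, 0, 0, 0, 0, 0, 0, 0, 0, 0, 0, 0, 0, 0, 0, 0, 0, 0, 0, 0, 0, 0, 0, 0, 0, 0, 0, 0])]

/-- Words of weight four with obstructions. -/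
def wordsB : List (List Bool × List Nat × List Nat) := [
  ([true, true, true, true, false, false, false, false, false, false, false, false, false, false, false, false, false, false, false, false, false, false, false, false, false, false, false, false],
    [0, 0, 0, 0, 0, 0, 0, 2, 2, 0, 2, 0, 0, 0, 0, 0, 0, 0, 1, 1, 3, 3, 0, 2, 0, 0, 0, 2, 0, 0, 0, 0, 1, 3, 3, 1, 2, 2, 0, 2, 3, 2, 0, 1, 3, 0, 3, 0, 1, 0, 3, 0, 1, 0, 2, 1],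
    [0, 0, 0, 0, 0, 0, 0, 1, 0, 0, 0, 0, 0, 0, 0, 0, 0, 0, 0, 0, 0, 0, 0, 0, 0, 0, 0, 0, 0, 0, 0, 0, 0, 0, 0, 0, 0, 0, 0, 0, 0, 0, 0, 0, 0, 0, 0, 0, 0]),
  ([false, false, false, false, true, true, true, true, false, false, false, false, false, false, false, false, false, false, false, false, false, false, false, false, false, false, false, false],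
    [3, 0, 3, 0, 3, 0, 0, 1, 0, 0, 2, 0, 0, 0, 0, 0, 0, 0, 0, 0, 1, 1, 3, 3, 2, 0, 3, 3, 1, 3, 2, 0, 1, 0, 1, 0, 3, 0, 0, 3, 3, 0, 0, 3, 1, 0, 1, 0, 3, 0, 1, 0, 1, 0, 2, 3],
    [3, 0, 0, 0, 0, 0, 1, 0, 0, 0, 0, 0, 0, 0, 0, 0, 0, 0, 0, 0, 0, 0, 0, 0, 0, 0, 0, 0, 0, 0, 0, 0, 0, 0, 0, 0, 0, 0, 0, 0, 0, 0, 0, 0, 0, 0, 0, 0, 0]),
  ([false, false, false, false, false, false, false, false, true, true, true, true, false, false, false, false, false, false, false, false, false, false, false, false, false, false, false, false],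
    [0, 0, 0, 0, 3, 3, 1, 3, 3, 1, 0, 0, 0, 0, 1, 3, 2, 0, 0, 0, 2, 2, 2, 2, 0, 1, 3, 2, 0, 3, 0, 1, 2, 1, 3, 2, 2, 3, 2, 1, 2, 3, 1, 2, 1, 0, 3, 2, 3, 0, 1, 0, 0, 1, 1, 2],
    [0, 0, 0, 0, 3, 0, 3, 0, 0, 1, 0, 0, 0, 0, 0, 0, 0, 0, 0, 0, 0, 0, 0, 0, 0, 0, 0, 0, 0, 0, 0, 0, 0, 0, 0, 0, 0, 0, 0, 0, 0, 0, 0, 0, 0, 0, 0, 0, 0]),
  ([false, false, false, false, false, false, false, false, false, false, false, false, true, true, true, true, false, false, false, false, false, false, false, false, false, false, false, false],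
    [3, 3, 1, 1, 2, 0, 0, 0, 3, 0, 0, 1, 3, 0, 1, 0, 3, 3, 1, 1, 0, 0, 0, 0, 2, 0, 2, 0, 2, 2, 2, 0, 3, 0, 0, 1, 1, 0, 1, 0, 2, 3, 1, 2, 1, 0, 1, 0, 2, 1, 1, 0, 1, 0, 1, 2],
    [3, 3, 1, 0, 0, 0, 0, 0, 0, 0, 0, 0, 0, 0, 0, 0, 0, 0, 0, 0, 0, 0, 0, 0, 0, 0, 0, 0, 0, 0, 0, 0, 0, 0, 0, 0, 0, 0, 0, 0, 0, 0, 0, 0, 0, 0, 0, 0, 0]),
  ([false, false, false, false, false, false, false, false, false, false, false, false, false, false, false, false, true, true, true, true, false, false, false, false, false, false, false, false],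
    [3, 0, 2, 3, 1, 0, 3, 0, 0, 0, 1, 3, 1, 3, 0, 0, 0, 1, 0, 3, 1, 0, 0, 3, 0, 0, 3, 3, 3, 3, 0, 0, 0, 0, 0, 2, 0, 0, 0, 0, 0, 1, 0, 3, 1, 0, 0, 3, 0, 3, 1, 0, 0, 3, 0, 3],
    [3, 0, 3, 0, 0, 0, 0, 0, 1, 0, 0, 0, 0, 0, 0, 0, 0, 0, 0, 0, 0, 0, 0, 0, 0, 0, 0, 0, 0, 0, 0, 0, 0, 0, 0, 0, 0, 0, 0, 0, 0, 0, 0, 0, 0, 0, 0, 0, 0]),
  ([false, false, false, false, false, false, false, false, false, false, false, false, false, false, false, false, false, false, false, false, true, true, true, true, false, false, false, false],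
    [0, 0, 3, 3, 3, 1, 2, 0, 0, 0, 1, 3, 1, 1, 0, 0, 0, 1, 0, 3, 0, 1, 3, 0, 0, 3, 3, 0, 3, 0, 3, 0, 0, 3, 0, 3, 0, 1, 3, 0, 0, 2, 0, 0, 0, 0, 0, 0, 0, 3, 1, 0, 1, 0, 1, 0],
    [0, 0, 3, 0, 1, 0, 0, 0, 0, 0, 0, 0, 0, 0, 0, 0, 0, 0, 0, 0, 0, 0, 0, 0, 0, 0, 0, 0, 0, 0, 0, 0, 0, 0, 0, 0, 0, 0, 0, 0, 0, 0, 0, 0, 0, 0, 0, 0, 0]),
  ([false, false, false, false, false, false, false, false, false, false, false, false, false, false, false, false, false, false, false, false, false, false, false, false, true, true, true, true],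
    [3, 3, 0, 0, 1, 1, 2, 0, 3, 0, 1, 0, 0, 1, 1, 0, 3, 0, 1, 0, 0, 1, 3, 0, 2, 3, 1, 0, 1, 2, 1, 0, 3, 3, 0, 0, 1, 1, 0, 0, 2, 1, 1, 2, 1, 0, 1, 0, 2, 0, 2, 0, 2, 0, 2, 2],
    [3, 3, 0, 0, 1, 0, 0, 0, 0, 0, 0, 0, 0, 0, 0, 0, 0, 0, 0, 0, 0, 0, 0, 0, 0, 0, 0, 0, 0, 0, 0, 0, 0, 0, 0, 0, 0, 0, 0, 0, 0, 0, 0, 0, 0, 0, 0, 0, 0])]

/-- Obstructions at single coordinates. -/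
def points : List (List Nat × List Nat) := [
  ([1, 0, 1, 0, 1, 0, 1, 0, 1, 0, 0, 0, 0, 0, 3, 0, 1, 0, 3, 0, 0, 0, 0, 0, 0, 0, 0, 0, 3, 0, 1, 0, 1, 0, 0, 0, 3, 0, 0, 0, 0, 0, 3, 0, 1, 0, 0, 0, 0, 0, 1, 0, 0, 0, 3, 0],
    [1, 0, 0, 0, 0, 0, 0, 0, 0, 0, 0, 0, 0, 0, 0, 0, 0, 0, 0, 0, 0, 0, 0, 0, 0, 0, 0, 0, 0, 0, 0, 0, 0, 0, 0, 0, 0, 0, 0, 0, 0, 0, 0, 0, 0, 0, 0, 0, 0]),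
  ([1, 0, 1, 0, 1, 0, 1, 0, 1, 0, 0, 0, 0, 0, 3, 0, 1, 0, 3, 0, 0, 0, 0, 0, 0, 0, 0, 0, 3, 0, 1, 0, 1, 0, 0, 0, 3, 0, 0, 0, 0, 0, 3, 0, 1, 0, 0, 0, 0, 0, 1, 0, 0, 0, 3, 0],
    [1, 0, 0, 0, 0, 0, 0, 0, 0, 0, 0, 0, 0, 0, 0, 0, 0, 0, 0, 0, 0, 0, 0, 0, 0, 0, 0, 0, 0, 0, 0, 0, 0, 0, 0, 0, 0, 0, 0, 0, 0, 0, 0, 0, 0, 0, 0, 0, 0]),
  ([1, 0, 1, 0, 1, 0, 1, 0, 1, 0, 0, 0, 0, 0, 3, 0, 1, 0, 3, 0, 0, 0, 0, 0, 0, 0, 0, 0, 3, 0, 1, 0, 1, 0, 0, 0, 3, 0, 0, 0, 0, 0, 3, 0, 1, 0, 0, 0, 0, 0, 1, 0, 0, 0, 3, 0],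
    [1, 0, 0, 0, 0, 0, 0, 0, 0, 0, 0, 0, 0, 0, 0, 0, 0, 0, 0, 0, 0, 0, 0, 0, 0, 0, 0, 0, 0, 0, 0, 0, 0, 0, 0, 0, 0, 0, 0, 0, 0, 0, 0, 0, 0, 0, 0, 0, 0]),
  ([1, 0, 1, 0, 1, 0, 1, 0, 1, 0, 0, 0, 0, 0, 3, 0, 1, 0, 3, 0, 0, 0, 0, 0, 0, 0, 0, 0, 3, 0, 1, 0, 1, 0, 0, 0, 3, 0, 0, 0, 0, 0, 3, 0, 1, 0, 0, 0, 0, 0, 1, 0, 0, 0, 3, 0],
    [1, 0, 0, 0, 0, 0, 0, 0, 0, 0, 0, 0, 0, 0, 0, 0, 0, 0, 0, 0, 0, 0, 0, 0, 0, 0, 0, 0, 0, 0, 0, 0, 0, 0, 0, 0, 0, 0, 0, 0, 0, 0, 0, 0, 0, 0, 0, 0, 0]),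
  ([1, 0, 1, 0, 1, 0, 1, 0, 1, 0, 0, 0, 0, 0, 3, 0, 1, 0, 3, 0, 0, 0, 0, 0, 0, 0, 0, 0, 3, 0, 1, 0, 1, 0, 0, 0, 3, 0, 0, 0, 0, 0, 3, 0, 1, 0, 0, 0, 0, 0, 1, 0, 0, 0, 3, 0],
    [1, 0, 0, 0, 0, 0, 0, 0, 0, 0, 0, 0, 0, 0, 0, 0, 0, 0, 0, 0, 0, 0, 0, 0, 0, 0, 0, 0, 0, 0, 0, 0, 0, 0, 0, 0, 0, 0, 0, 0, 0, 0, 0, 0, 0, 0, 0, 0, 0]),
  ([0, 0, 1, 1, 2, 0, 0, 0, 0, 0, 0, 1, 3, 0, 0, 0, 0, 3, 0, 1, 0, 0, 0, 0, 1, 0, 1, 0, 1, 1, 0, 0, 0, 0, 0, 1, 0, 0, 1, 0, 1, 3, 0, 1, 3, 0, 0, 0, 1, 1, 3, 0, 0, 0, 0, 1],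
    [0, 0, 1, 0, 0, 0, 0, 0, 0, 0, 0, 0, 0, 0, 0, 0, 0, 0, 0, 0, 0, 0, 0, 0, 0, 0, 0, 0, 0, 0, 0, 0, 0, 0, 0, 0, 0, 0, 0, 0, 0, 0, 0, 0, 0, 0, 0, 0, 0]),
  ([0, 0, 1, 1, 2, 0, 0, 0, 0, 0, 0, 1, 3, 0, 0, 0, 0, 3, 0, 1, 0, 0, 0, 0, 1, 0, 1, 0, 1, 1, 0, 0, 0, 0, 0, 1, 0, 0, 1, 0, 1, 3, 0, 1, 3, 0, 0, 0, 1, 1, 3, 0, 0, 0, 0, 1],
    [0, 0, 1, 0, 0, 0, 0, 0, 0, 0, 0, 0, 0, 0, 0, 0, 0, 0, 0, 0, 0, 0, 0, 0, 0, 0, 0, 0, 0, 0, 0, 0, 0, 0, 0, 0, 0, 0, 0, 0, 0, 0, 0, 0, 0, 0, 0, 0, 0]),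
  ([1, 0, 1, 0, 1, 0, 1, 0, 1, 0, 0, 0, 0, 0, 3, 0, 1, 0, 3, 0, 0, 0, 0, 0, 0, 0, 0, 0, 3, 0, 1, 0, 1, 0, 0, 0, 3, 0, 0, 0, 0, 0, 3, 0, 1, 0, 0, 0, 0, 0, 1, 0, 0, 0, 3, 0],
    [1, 0, 0, 0, 0, 0, 0, 0, 0, 0, 0, 0, 0, 0, 0, 0, 0, 0, 0, 0, 0, 0, 0, 0, 0, 0, 0, 0, 0, 0, 0, 0, 0, 0, 0, 0, 0, 0, 0, 0, 0, 0, 0, 0, 0, 0, 0, 0, 0]),
  ([1, 0, 1, 0, 1, 0, 1, 0, 1, 0, 0, 0, 0, 0, 3, 0, 1, 0, 3, 0, 0, 0, 0, 0, 0, 0, 0, 0, 3, 0, 1, 0, 1, 0, 0, 0, 3, 0, 0, 0, 0, 0, 3, 0, 1, 0, 0, 0, 0, 0, 1, 0, 0, 0, 3, 0],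
    [1, 0, 0, 0, 0, 0, 0, 0, 0, 0, 0, 0, 0, 0, 0, 0, 0, 0, 0, 0, 0, 0, 0, 0, 0, 0, 0, 0, 0, 0, 0, 0, 0, 0, 0, 0, 0, 0, 0, 0, 0, 0, 0, 0, 0, 0, 0, 0, 0]),
  ([1, 0, 1, 0, 1, 0, 1, 0, 1, 0, 0, 0, 0, 0, 3, 0, 1, 0, 3, 0, 0, 0, 0, 0, 0, 0, 0, 0, 3, 0, 1, 0, 1, 0, 0, 0, 3, 0, 0, 0, 0, 0, 3, 0, 1, 0, 0, 0, 0, 0, 1, 0, 0, 0, 3, 0],
    [1, 0, 0, 0, 0, 0, 0, 0, 0, 0, 0, 0, 0, 0, 0, 0, 0, 0, 0, 0, 0, 0, 0, 0, 0, 0, 0, 0, 0, 0, 0, 0, 0, 0, 0, 0, 0, 0, 0, 0, 0, 0, 0, 0, 0, 0, 0, 0, 0]),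
  ([0, 0, 0, 1, 1, 0, 2, 0, 0, 0, 3, 1, 3, 0, 1, 0, 3, 3, 1, 1, 3, 0, 1, 0, 2, 0, 1, 0, 1, 1, 3, 0, 3, 0, 3, 1, 2, 0, 1, 0, 1, 3, 2, 1, 2, 0, 3, 0, 2, 1, 3, 0, 1, 0, 2, 1],
    [0, 0, 0, 1, 0, 0, 0, 0, 0, 0, 0, 0, 0, 0, 0, 0, 0, 0, 0, 0, 0, 0, 0, 0, 0, 0, 0, 0, 0, 0, 0, 0, 0, 0, 0, 0, 0, 0, 0, 0, 0, 0, 0, 0, 0, 0, 0, 0, 0]),
  ([0, 0, 0, 1, 1, 0, 2, 0, 0, 0, 3, 1, 3, 0, 1, 0, 3, 3, 1, 1, 3, 0, 1, 0, 2, 0, 1, 0, 1, 1, 3, 0, 3, 0, 3, 1, 2, 0, 1, 0, 1, 3, 2, 1, 2, 0, 3, 0, 2, 1, 3, 0, 1, 0, 2, 1],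
    [0, 0, 0, 1, 0, 0, 0, 0, 0, 0, 0, 0, 0, 0, 0, 0, 0, 0, 0, 0, 0, 0, 0, 0, 0, 0, 0, 0, 0, 0, 0, 0, 0, 0, 0, 0, 0, 0, 0, 0, 0, 0, 0, 0, 0, 0, 0, 0, 0]),
  ([0, 1, 3, 0, 3, 0, 3, 0, 0, 0, 0, 0, 0, 0, 0, 0, 0, 0, 0, 0, 0, 0, 0, 0, 3, 0, 3, 0, 0, 3, 1, 0, 0, 0, 0, 0, 0, 0, 0, 0, 3, 0, 0, 3, 1, 0, 3, 0, 3, 0, 1, 0, 3, 0, 0, 3],
    [0, 1, 0, 0, 0, 0, 0, 0, 0, 0, 0, 0, 0, 0, 0, 0, 0, 0, 0, 0, 0, 0, 0, 0, 0, 0, 0, 0, 0, 0, 0, 0, 0, 0, 0, 0, 0, 0, 0, 0, 0, 0, 0, 0, 0, 0, 0, 0, 0]),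
  ([0, 1, 3, 0, 3, 0, 3, 0, 0, 0, 0, 0, 0, 0, 0, 0, 0, 0, 0, 0, 0, 0, 0, 0, 3, 0, 3, 0, 0, 3, 1, 0, 0, 0, 0, 0, 0, 0, 0, 0, 3, 0, 0, 3, 1, 0, 3, 0, 3, 0, 1, 0, 3, 0, 0, 3],
    [0, 1, 0, 0, 0, 0, 0, 0, 0, 0, 0, 0, 0, 0, 0, 0, 0, 0, 0, 0, 0, 0, 0, 0, 0, 0, 0, 0, 0, 0, 0, 0, 0, 0, 0, 0, 0, 0, 0, 0, 0, 0, 0, 0, 0, 0, 0, 0, 0]),
  ([1, 0, 1, 0, 1, 0, 1, 0, 1, 0, 0, 0, 0, 0, 3, 0, 1, 0, 3, 0, 0, 0, 0, 0, 0, 0, 0, 0, 3, 0, 1, 0, 1, 0, 0, 0, 3, 0, 0, 0, 0, 0, 3, 0, 1, 0, 0, 0, 0, 0, 1, 0, 0, 0, 3, 0],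
    [1, 0, 0, 0, 0, 0, 0, 0, 0, 0, 0, 0, 0, 0, 0, 0, 0, 0, 0, 0, 0, 0, 0, 0, 0, 0, 0, 0, 0, 0, 0, 0, 0, 0, 0, 0, 0, 0, 0, 0, 0, 0, 0, 0, 0, 0, 0, 0, 0]),
  ([1, 0, 1, 0, 1, 0, 1, 0, 1, 0, 0, 0, 0, 0, 3, 0, 1, 0, 3, 0, 0, 0, 0, 0, 0, 0, 0, 0, 3, 0, 1, 0, 1, 0, 0, 0, 3, 0, 0, 0, 0, 0, 3, 0, 1, 0, 0, 0, 0, 0, 1, 0, 0, 0, 3, 0],
    [1, 0, 0, 0, 0, 0, 0, 0, 0, 0, 0, 0, 0, 0, 0, 0, 0, 0, 0, 0, 0, 0, 0, 0, 0, 0, 0, 0, 0, 0, 0, 0, 0, 0, 0, 0, 0, 0, 0, 0, 0, 0, 0, 0, 0, 0, 0, 0, 0]),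
  ([1, 0, 1, 0, 1, 0, 1, 0, 1, 0, 0, 0, 0, 0, 3, 0, 1, 0, 3, 0, 0, 0, 0, 0, 0, 0, 0, 0, 3, 0, 1, 0, 1, 0, 0, 0, 3, 0, 0, 0, 0, 0, 3, 0, 1, 0, 0, 0, 0, 0, 1, 0, 0, 0, 3, 0],
    [1, 0, 0, 0, 0, 0, 0, 0, 0, 0, 0, 0, 0, 0, 0, 0, 0, 0, 0, 0, 0, 0, 0, 0, 0, 0, 0, 0, 0, 0, 0, 0, 0, 0, 0, 0, 0, 0, 0, 0, 0, 0, 0, 0, 0, 0, 0, 0, 0]),
  ([0, 0, 1, 1, 2, 0, 0, 0, 0, 0, 0, 1, 3, 0, 0, 0, 0, 3, 0, 1, 0, 0, 0, 0, 1, 0, 1, 0, 1, 1, 0, 0, 0, 0, 0, 1, 0, 0, 1, 0, 1, 3, 0, 1, 3, 0, 0, 0, 1, 1, 3, 0, 0, 0, 0, 1],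
    [0, 0, 1, 0, 0, 0, 0, 0, 0, 0, 0, 0, 0, 0, 0, 0, 0, 0, 0, 0, 0, 0, 0, 0, 0, 0, 0, 0, 0, 0, 0, 0, 0, 0, 0, 0, 0, 0, 0, 0, 0, 0, 0, 0, 0, 0, 0, 0, 0]),
  ([1, 0, 1, 0, 1, 0, 1, 0, 1, 0, 0, 0, 0, 0, 3, 0, 1, 0, 3, 0, 0, 0, 0, 0, 0, 0, 0, 0, 3, 0, 1, 0, 1, 0, 0, 0, 3, 0, 0, 0, 0, 0, 3, 0, 1, 0, 0, 0, 0, 0, 1, 0, 0, 0, 3, 0],
    [1, 0, 0, 0, 0, 0, 0, 0, 0, 0, 0, 0, 0, 0, 0, 0, 0, 0, 0, 0, 0, 0, 0, 0, 0, 0, 0, 0, 0, 0, 0, 0, 0, 0, 0, 0, 0, 0, 0, 0, 0, 0, 0, 0, 0, 0, 0, 0, 0]),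
  ([0, 0, 1, 1, 2, 0, 0, 0, 0, 0, 0, 1, 3, 0, 0, 0, 0, 3, 0, 1, 0, 0, 0, 0, 1, 0, 1, 0, 1, 1, 0, 0, 0, 0, 0, 1, 0, 0, 1, 0, 1, 3, 0, 1, 3, 0, 0, 0, 1, 1, 3, 0, 0, 0, 0, 1],
    [0, 0, 1, 0, 0, 0, 0, 0, 0, 0, 0, 0, 0, 0, 0, 0, 0, 0, 0, 0, 0, 0, 0, 0, 0, 0, 0, 0, 0, 0, 0, 0, 0, 0, 0, 0, 0, 0, 0, 0, 0, 0, 0, 0, 0, 0, 0, 0, 0]),
  ([0, 1, 3, 0, 3, 0, 3, 0, 0, 0, 0, 0, 0, 0, 0, 0, 0, 0, 0, 0, 0, 0, 0, 0, 3, 0, 3, 0, 0, 3, 1, 0, 0, 0, 0, 0, 0, 0, 0, 0, 3, 0, 0, 3, 1, 0, 3, 0, 3, 0, 1, 0, 3, 0, 0, 3],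
    [0, 1, 0, 0, 0, 0, 0, 0, 0, 0, 0, 0, 0, 0, 0, 0, 0, 0, 0, 0, 0, 0, 0, 0, 0, 0, 0, 0, 0, 0, 0, 0, 0, 0, 0, 0, 0, 0, 0, 0, 0, 0, 0, 0, 0, 0, 0, 0, 0]),
  ([1, 0, 1, 0, 1, 0, 1, 0, 1, 0, 0, 0, 0, 0, 3, 0, 1, 0, 3, 0, 0, 0, 0, 0, 0, 0, 0, 0, 3, 0, 1, 0, 1, 0, 0, 0, 3, 0, 0, 0, 0, 0, 3, 0, 1, 0, 0, 0, 0, 0, 1, 0, 0, 0, 3, 0],
    [1, 0, 0, 0, 0, 0, 0, 0, 0, 0, 0, 0, 0, 0, 0, 0, 0, 0, 0, 0, 0, 0, 0, 0, 0, 0, 0, 0, 0, 0, 0, 0, 0, 0, 0, 0, 0, 0, 0, 0, 0, 0, 0, 0, 0, 0, 0, 0, 0]),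
  ([1, 0, 1, 0, 1, 0, 1, 0, 1, 0, 0, 0, 0, 0, 3, 0, 1, 0, 3, 0, 0, 0, 0, 0, 0, 0, 0, 0, 3, 0, 1, 0, 1, 0, 0, 0, 3, 0, 0, 0, 0, 0, 3, 0, 1, 0, 0, 0, 0, 0, 1, 0, 0, 0, 3, 0],
    [1, 0, 0, 0, 0, 0, 0, 0, 0, 0, 0, 0, 0, 0, 0, 0, 0, 0, 0, 0, 0, 0, 0, 0, 0, 0, 0, 0, 0, 0, 0, 0, 0, 0, 0, 0, 0, 0, 0, 0, 0, 0, 0, 0, 0, 0, 0, 0, 0]),
  ([0, 1, 3, 0, 3, 0, 3, 0, 0, 0, 0, 0, 0, 0, 0, 0, 0, 0, 0, 0, 0, 0, 0, 0, 3, 0, 3, 0, 0, 3, 1, 0, 0, 0, 0, 0, 0, 0, 0, 0, 3, 0, 0, 3, 1, 0, 3, 0, 3, 0, 1, 0, 3, 0, 0, 3],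
    [0, 1, 0, 0, 0, 0, 0, 0, 0, 0, 0, 0, 0, 0, 0, 0, 0, 0, 0, 0, 0, 0, 0, 0, 0, 0, 0, 0, 0, 0, 0, 0, 0, 0, 0, 0, 0, 0, 0, 0, 0, 0, 0, 0, 0, 0, 0, 0, 0]),
  ([0, 1, 3, 0, 3, 0, 3, 0, 0, 0, 0, 0, 0, 0, 0, 0, 0, 0, 0, 0, 0, 0, 0, 0, 3, 0, 3, 0, 0, 3, 1, 0, 0, 0, 0, 0, 0, 0, 0, 0, 3, 0, 0, 3, 1, 0, 3, 0, 3, 0, 1, 0, 3, 0, 0, 3],
    [0, 1, 0, 0, 0, 0, 0, 0, 0, 0, 0, 0, 0, 0, 0, 0, 0, 0, 0, 0, 0, 0, 0, 0, 0, 0, 0, 0, 0, 0, 0, 0, 0, 0, 0, 0, 0, 0, 0, 0, 0, 0, 0, 0, 0, 0, 0, 0, 0]),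
  ([1, 0, 1, 0, 1, 0, 1, 0, 1, 0, 0, 0, 0, 0, 3, 0, 1, 0, 3, 0, 0, 0, 0, 0, 0, 0, 0, 0, 3, 0, 1, 0, 1, 0, 0, 0, 3, 0, 0, 0, 0, 0, 3, 0, 1, 0, 0, 0, 0, 0, 1, 0, 0, 0, 3, 0],
    [1, 0, 0, 0, 0, 0, 0, 0, 0, 0, 0, 0, 0, 0, 0, 0, 0, 0, 0, 0, 0, 0, 0, 0, 0, 0, 0, 0, 0, 0, 0, 0, 0, 0, 0, 0, 0, 0, 0, 0, 0, 0, 0, 0, 0, 0, 0, 0, 0]),
  ([0, 1, 3, 0, 3, 0, 3, 0, 0, 0, 0, 0, 0, 0, 0, 0, 0, 0, 0, 0, 0, 0, 0, 0, 3, 0, 3, 0, 0, 3, 1, 0, 0, 0, 0, 0, 0, 0, 0, 0, 3, 0, 0, 3, 1, 0, 3, 0, 3, 0, 1, 0, 3, 0, 0, 3],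
    [0, 1, 0, 0, 0, 0, 0, 0, 0, 0, 0, 0, 0, 0, 0, 0, 0, 0, 0, 0, 0, 0, 0, 0, 0, 0, 0, 0, 0, 0, 0, 0, 0, 0, 0, 0, 0, 0, 0, 0, 0, 0, 0, 0, 0, 0, 0, 0, 0]),
  ([1, 0, 1, 0, 1, 0, 1, 0, 1, 0, 0, 0, 0, 0, 3, 0, 1, 0, 3, 0, 0, 0, 0, 0, 0, 0, 0, 0, 3, 0, 1, 0, 1, 0, 0, 0, 3, 0, 0, 0, 0, 0, 3, 0, 1, 0, 0, 0, 0, 0, 1, 0, 0, 0, 3, 0],
    [1, 0, 0, 0, 0, 0, 0, 0, 0, 0, 0, 0, 0, 0, 0, 0, 0, 0, 0, 0, 0, 0, 0, 0, 0, 0, 0, 0, 0, 0, 0, 0, 0, 0, 0, 0, 0, 0, 0, 0, 0, 0, 0, 0, 0, 0, 0, 0, 0])]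

end CfsgLib.Spor.RuLat
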