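import Cfsg.Agent.Lib.Spor.RuLat.Checks

/-!
The Rudvalis lattice is even and has no roots.
-/

set_option autoImplicit false
set_option maxRecDepth 100000

namespace CfsgLib.Spor.RuLat

open Cfsg.Spor

theorem dotL_eq : ∀ (n : ℕ) (u v : List ℕ), u.length = n → v.length = n →
    dotL u v = ∑ k ∈ Finset.range n, u.getD k 0 * v.getD k 0
  | 0, u, v, hu, hv => by
    rw [List.length_eq_zero_iff.1 hu, List.length_eq_zero_iff.1 hv]; rfl
  | n + 1, x :: u, y :: v, hu, hv => by
    simp only [List.length_cons, Nat.succ.injEq] at hu hv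
    rw [dotL, dotL_eq n u v hu hv, Finset.sum_range_succ', add_comm]
    rfl
  | n + 1, [], v, hu, _ => by simp at hu
  | n + 1, _ :: _, [], _, hv => by simp at hv

theorem sum_flat (f : ℕ → ZMod 4) :
    (∑ p : RuIdx, (f (2 * flatIdx p) + f (2 * flatIdx p + 1))) = ∑ k ∈ Finset.range 56, f k := by
  simp only [Fintype.sum_prod_type, Fin.sum_univ_seven, Fin.sum_univ_four, flatIdx, Fin.val_zero, Fin.val_one,
    Fin.val_two]
  simp only [Finset.sum_range_succ, Finset.sum_range_zero]
  norm_num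
  abel

theorem pair_rows {r s : List ℕ} (hr : r ∈ rows) (hs : s ∈ rows) : pair (toV r) (toV s) = 0 := by
  have h := rows_dot
  have hl := rows_norm
  simp only [List.all_eq_true] at h hl
  have h4 : ((dotL r s : ℕ) : ZMod 4) = 0 :=
    (ZMod.natCast_eq_zero_iff _ 4).2 (Nat.dvd_of_mod_eq_zero (Nat.eq_of_beq_eq_true (h r hr s hs)))
  rw [← h4, dotL_eq 56 r s (Nat.eq_of_beq_eq_true (hl r hr)) (Nat.eq_of_beq_eq_true (hl s hs)), Nat.cast_sum,
    ← sum_flat fun k => ((r.getD k 0 * s.getD k 0 : ℕ) : ZMod 4)]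
  exact Finset.sum_congr rfl fun p _ => by simp [toV]

theorem pair_span {u w : V} (hu : u ∈ span) (hw : w ∈ span) : pair u w = 0 := by
  have hz : ∀ w, pair 0 w = 0 := fun w => by simp [pair]
  have hn : ∀ a w, pair (-a) w = -pair a w := fun a w => by
    have := pair_add_left (-a) a w
    rw [neg_add_cancel, hz] at this
    exact eq_neg_of_add_eq_zero_left this.symm
  rw [span] at hu hw
  induction hu using AddSubgroup.closure_induction with
  | mem x hx =>
    obtain ⟨r, hr, rfl⟩ := hx
    rw [pair_comm]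
    induction hw using AddSubgroup.closure_induction with
    | mem y hy => obtain ⟨s, hs, rfl⟩ := hy; exact pair_rows hs hr
    | zero => exact hz _
    | add a b _ _ ha hb => rw [pair_add_left, ha, hb, add_zero]
    | neg a _ ha => rw [hn, ha, neg_zero]
  | zero => exact hz _
  | add a b _ _ ha hb => rw [pair_add_left, ha, hb, add_zero]
  | neg a _ ha => rw [hn, ha, neg_zero]

theorem map_span {f : V →+ V} {co : List (List ℕ)}
    (h : ((List.range rows.length).all fun i => imageOK f (rows.getD i []) (co.getD i [])) = true) {w : V}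
    (hw : w ∈ span) : f w ∈ span := by
  have hle : span ≤ span.comap f := by
    refine (AddSubgroup.closure_le _).2 ?_
    rintro _ ⟨r, hr, rfl⟩
    obtain ⟨i, hi, rfl⟩ := List.getElem_of_mem hr
    simp only [List.all_eq_true, List.mem_range, imageOK, decide_eq_true_eq] at h
    show f (toV rows[i]) ∈ span
    rw [← List.getD_eq_getElem rows [] hi, funext (h i hi)]
    exact lin_mem _ _ fun _ hh => hh
  exact hle hw

theorem table_mem {t : RuVec} (ht : t ∈ ruTable) : red t ∈ span ∧ ruNorm t = 16 := by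
  have h := table_ok
  simp only [tableOK, Bool.and_eq_true, List.all_eq_true, List.mem_range, decide_eq_true_eq] at h
  obtain ⟨i, hi, rfl⟩ := List.getElem_of_mem ht
  have hi20 : i < 20 := (Nat.eq_of_beq_eq_true h.1) ▸ hi
  refine ⟨?_, ?_⟩
  · rw [← List.getD_eq_getElem ruTable 0 hi, funext (h.2 i hi20)]
    exact lin_mem _ _ fun _ hh => hh
  · have hn : ∀ i : Fin 20, ruNorm (ruTable.getD i 0) = 16 := by decide +kernel
    rw [← List.getD_eq_getElem ruTable 0 hi]
    exact hn ⟨i, hi20⟩

/-- The lattice of vectors in the span with norm divisible by eight. -/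
def even : AddSubgroup RuVec where
  carrier := {x | red x ∈ span ∧ (8 : ℤ) ∣ ruNorm x}
  zero_mem' := ⟨by rw [map_zero]; exact zero_mem _, ⟨0, by simp [norm_expand]⟩⟩
  neg_mem' := fun {x} hx => ⟨by rw [map_neg]; exact neg_mem hx.1, by
    have : ruNorm (-x) = ruNorm x := by simp [norm_expand, Zsqrtd.re_neg, Zsqrtd.im_neg]
    rw [this]; exact hx.2⟩
  add_mem' := fun {x y} hx hy => ⟨by rw [map_add]; exact add_mem hx.1 hy.1, by
    have e : ruNorm (x + y) = ruNorm x + ruNorm y + 2 * ∑ p, ((x p).re * (y p).re + (x p).im * (y p).im) := by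
      simp only [norm_expand, Finset.mul_sum, ← Finset.sum_add_distrib]
      exact Finset.sum_congr rfl fun p _ => by simp [Zsqrtd.re_add, Zsqrtd.im_add]; ring
    have h4 : (4 : ℤ) ∣ ∑ p, ((x p).re * (y p).re + (x p).im * (y p).im) := by
      refine (ZMod.intCast_zmod_eq_zero_iff_dvd _ 4).1 ?_
      rw [Int.cast_sum, ← pair_span hx.1 hy.1]
      exact Finset.sum_congr rfl fun p _ => by simp [red]
    rw [e]
    exact dvd_add (dvd_add hx.2 hy.2) (by obtain ⟨k, hk⟩ := h4; exact ⟨k, by rw [hk]; ring⟩)⟩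

theorem lattice_le : ruLattice ≤ even := by
  refine sInf_le ⟨fun t ht => ⟨(table_mem ht).1, ⟨2, by rw [(table_mem ht).2]; norm_num⟩⟩, fun v hv => ?_⟩
  exact ⟨⟨(red_I v).symm ▸ map_span imgI_ok hv.1, (norm_I v).symm ▸ hv.2⟩,
    ⟨(red_J v).symm ▸ map_span imgJ_ok hv.1, (norm_J v).symm ▸ hv.2⟩,
    ⟨(red_K v).symm ▸ map_span imgK_ok hv.1, (norm_K v).symm ▸ hv.2⟩,
    ⟨(red_sign v).symm ▸ map_span imgSign_ok hv.1, (norm_sign v).symm ▸ hv.2⟩,
    ⟨(red_shift v).symm ▸ map_span imgShift_ok hv.1, (norm_shift v).symm ▸ hv.2⟩⟩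

section

variable (x : RuVec)

/-- The first residue at a coordinate number. -/
def resA (i : ℕ) : ℕ := ((x (ofIdx i)).re % 4).toNat

/-- The second residue at a coordinate number. -/
def resB (i : ℕ) : ℕ := ((x (ofIdx i)).im % 4).toNat

/-- The norm at a coordinate number. -/
def nn (i : ℕ) : ℤ := (x (ofIdx i)).re * (x (ofIdx i)).re + (x (ofIdx i)).im * (x (ofIdx i)).im

theorem cast_res (a : ℤ) : (((a % 4).toNat : ℕ) : ZMod 4) = (a : ZMod 4) := by
  have h : (((a % 4).toNat : ℕ) : ℤ) = a % 4 := Int.toNat_of_nonneg (Int.emod_nonneg a (by norm_num))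
  rw [← Int.cast_natCast, h]
  exact (ZMod.intCast_mod a 4)

theorem res_lt (a : ℤ) : (a % 4).toNat < 4 := by omega

theorem sum_idx {M : Type*} [AddCommMonoid M] (f : RuIdx → M) :
    ∑ p, f p = ∑ i ∈ Finset.range 28, f (ofIdx i) := by
  rw [Finset.sum_range]
  exact (Fintype.sum_bijective (fun i : Fin 28 => ofIdx i)
    ⟨fun i j h => Fin.ext ((flatIdx_ofIdx i).symm.trans ((congrArg flatIdx h).trans (flatIdx_ofIdx j))),
      fun p => ⟨⟨flatIdx p, flatIdx_lt p⟩, ofIdx_flatIdx p⟩⟩ _ _ fun i => rfl).symm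

theorem norm_sum : ruNorm x = ∑ i ∈ Finset.range 28, nn x i := by
  rw [norm_expand, sum_idx]; rfl

theorem nn_nonneg (i : ℕ) : 0 ≤ nn x i := add_nonneg (mul_self_nonneg _) (mul_self_nonneg _)

variable {x} (hx : red x ∈ span)

include hx in
theorem dual_zero {g cs : List ℕ} (h : same (lin cs rows) g = true) :
    ∑ i ∈ Finset.range 28,
      (((g.getD (2 * i) 0 * resA x i + g.getD (2 * i + 1) 0 * resB x i) % 4 : ℕ) : ZMod 4) = 0 := by
  rw [← pair_span (mem_of_same h) hx, pair, sum_idx]
  refine Finset.sum_congr rfl fun i hi => ?_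
  have hi : i < 28 := Finset.mem_range.1 hi
  rw [ZMod.natCast_mod, Nat.cast_add, Nat.cast_mul, Nat.cast_mul, resA, resB, cast_res, cast_res]
  simp only [toV, flatIdx_ofIdx ⟨i, hi⟩]
  rfl

theorem par_eq (β : ℕ → Bool) : ∀ (h : List Bool) (o : ℕ),
    (if par h ((List.range h.length).map fun i => β (o + i)) then 2 else 0 : ZMod 4) =
      ∑ i ∈ Finset.range h.length, if β (o + i) && h.getD i false then 2 else 0
  | [], _ => by simp [par]
  | b :: h, o => by
    have e := par_eq β h (o + 1)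
    rw [List.length_cons, List.range_succ_eq_map, List.map_cons, List.map_map, par, Finset.sum_range_succ']
    have e2 : ((fun i => β (o + i)) ∘ Nat.succ) = fun i => β (o + 1 + i) := by
      funext i; simp [Nat.succ_eq_add_one, add_assoc, add_comm 1 i]
    rw [e2]
    simp only [List.getD_cons_succ, List.getD_cons_zero, add_zero]
    have e3 : ∀ i, β (o + (i + 1)) = β (o + 1 + i) := fun i => by rw [add_assoc, add_comm 1 i]
    simp only [e3, ← e]
    cases b <;> cases β o <;> cases par h ((List.range h.length).map fun i => β (o + 1 + i)) <;> decide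

include hx in
theorem par_check {dom bit : ℕ → ℕ → Bool} {fam : List (List Bool × List ℕ × List ℕ)}
    (hok : famOK dom bit fam = true) (hdom : ∀ i, i < 28 → dom (resA x i) (resB x i) = true) :
    ∀ h ∈ fam.map Prod.fst,
      par h ((List.range h.length).map fun i => bit (resA x i) (resB x i)) = false := by
  intro h hh
  obtain ⟨e, he, rfl⟩ := List.mem_map.1 hh
  simp only [famOK, List.all_eq_true, Bool.and_eq_true] at hok
  obtain ⟨⟨hp, hs⟩, hlen⟩ := hok e he
  simp only [parOK, List.all_eq_true, List.mem_range, Bool.or_eq_true, Bool.not_eq_true', res4, List.mem_cons,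
    List.not_mem_nil, or_false] at hp
  have h0 := dual_zero hx hs
  have hle : e.1.length ≤ 28 := Nat.le_of_ble_eq_true hlen
  have hterm : ∀ i ∈ Finset.range 28,
      ((((e.2.1).getD (2 * i) 0 * resA x i + (e.2.1).getD (2 * i + 1) 0 * resB x i) % 4 : ℕ) : ZMod 4) =
        if bit (resA x i) (resB x i) && e.1.getD i false then 2 else 0 := fun i hi => by
    have hi : i < 28 := Finset.mem_range.1 hi
    have ha : resA x i < 4 := res_lt _
    have hb : resB x i < 4 := res_lt _
    rcases hp i hi (resA x i) (by omega) (resB x i) (by omega) with hd | hd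
    · rw [hdom i hi] at hd; cases hd
    · rw [Nat.eq_of_beq_eq_true hd]
      split <;> rfl
  rw [Finset.sum_congr rfl hterm, ← Finset.sum_range_add_sum_Ico _ hle,
    Finset.sum_eq_zero (s := Finset.Ico e.1.length 28) (fun i hi => by
      rw [List.getD_eq_default _ _ (Finset.mem_Ico.1 hi).1, Bool.and_false]; rfl), add_zero] at h0
  have h1 := par_eq (fun i => bit (resA x i) (resB x i)) e.1 0
  simp only [zero_add, h0] at h1
  cases hc : par e.1 ((List.range e.1.length).map fun i => bit (resA x i) (resB x i))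
  · rfl
  · rw [hc] at h1
    exact absurd h1 (by decide)

theorem wt_append : ∀ (a b : List Bool), wt (a ++ b) = wt a + wt b
  | [], b => by simp [wt]
  | y :: a, b => by simp [wt, wt_append a b, add_assoc]

theorem wt_eq (β : ℕ → Bool) : ∀ n : ℕ,
    wt ((List.range n).map β) = ∑ i ∈ Finset.range n, if β i then 1 else 0
  | 0 => rfl
  | n + 1 => by
    rw [List.range_succ, List.map_append, wt_append, wt_eq β n, Finset.sum_range_succ]
    simp [wt]

theorem dfs_spec {hs good : List (List Bool)} {w : ℕ} (β : ℕ → Bool)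
    (hpar : ∀ h ∈ hs, par h ((List.range h.length).map β) = false)
    (hw : wt ((List.range 28).map β) ≤ w) :
    ∀ n k : ℕ, k + n = 28 → dfs hs w good n ((List.range k).map β) = true →
      (∀ i, i < 28 → β i = false) ∨ (List.range 28).map β ∈ good := by
  have hpre : ∀ k, k ≤ 28 → wt ((List.range k).map β) ≤ w := fun k hk => by
    refine le_trans ?_ hw
    rw [wt_eq, wt_eq]
    exact Finset.sum_le_sum_of_subset (Finset.range_mono hk)
  have hno : ∀ k, k ≤ 28 → (!Nat.ble (wt ((List.range k).map β)) w ||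
      hs.any fun h => Nat.beq h.length ((List.range k).map β).length && par h ((List.range k).map β)) = false := by
    intro k hk
    rw [Bool.or_eq_false_iff]
    refine ⟨?_, ?_⟩
    · rw [Nat.ble_eq_true_of_le (hpre k hk)]; rfl
    · rw [List.any_eq_false]
      intro h hh hc
      rw [Bool.and_eq_true, List.length_map, List.length_range] at hc
      have e := Nat.eq_of_beq_eq_true hc.1
      rw [← e, hpar h hh] at hc
      exact absurd hc.2 (by simp)
  intro n
  induction n with
  | zero =>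
    intro k hk hd
    obtain rfl : k = 28 := by omega
    rw [dfs, hno 28 le_rfl, Bool.false_or, Bool.or_eq_true] at hd
    rcases hd with hd | hd
    · refine Or.inl fun i hi => ?_
      have h0 := Nat.eq_of_beq_eq_true hd
      rw [wt_eq, Finset.sum_eq_zero_iff] at h0
      simpa using h0 i (Finset.mem_range.2 hi)
    · exact Or.inr (by simpa using hd)
  | succ n ih =>
    intro k hk hd
    rw [dfs, hno k (by omega), Bool.false_or, Bool.and_eq_true] at hd
    have e : (List.range (k + 1)).map β = (List.range k).map β ++ [β k] := by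
      rw [List.range_succ, List.map_append]; rfl
    refine ih (k + 1) (by omega) ?_
    rw [e]
    cases β k
    · exact hd.1
    · exact hd.2

include hx in
theorem word_false {cand : List (ℕ × ℕ)} {fam : List (List Bool × List ℕ × List ℕ)}
    (hok : wordsOK cand fam = true) {β : ℕ → Bool} (hβ : (List.range 28).map β ∈ fam.map Prod.fst)
    (hon : ∀ i, i < 28 → β i = true → (resA x i, resB x i) ∈ cand)
    (hoff : ∀ i, i < 28 → β i = false → resA x i = 0 ∧ resB x i = 0) : False := by
  obtain ⟨e, he, heq⟩ := List.mem_map.1 hβ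
  simp only [wordsOK, List.all_eq_true, Bool.and_eq_true] at hok
  obtain ⟨hword, hs⟩ := hok e he
  have h0 := dual_zero hx hs
  have hget : ∀ i, i < 28 → e.1.getD i false = β i := fun i hi => by
    rw [heq, List.getD_eq_getElem _ _ (by simpa using hi)]; simp
  simp only [wordOK, Bool.and_eq_true, List.all_eq_true, List.mem_range, Bool.or_eq_true, Bool.not_eq_true'] at hword
  obtain ⟨hv, hne⟩ := hword
  have hterm : ∀ i ∈ Finset.range 28,
      (((e.2.1).getD (2 * i) 0 * resA x i + (e.2.1).getD (2 * i + 1) 0 * resB x i) % 4) =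
      (if e.1.getD i false then ((e.2.1).getD (2 * i) 0 * (cand.headD (0, 0)).1 +
        (e.2.1).getD (2 * i + 1) 0 * (cand.headD (0, 0)).2) % 4 else 0) := fun i hi => by
    have hi : i < 28 := Finset.mem_range.1 hi
    cases hb : β i
    · obtain ⟨ha, hb'⟩ := hoff i hi hb
      rw [hget i hi, hb, ha, hb', if_neg Bool.false_ne_true]
      simp
    · rcases hv i hi with h | h
      · rw [hget i hi, hb] at h; cases h
      · exact Nat.eq_of_beq_eq_true (h _ (hon i hi hb))
  rw [Finset.sum_congr rfl fun i hi => congrArg Nat.cast (hterm i hi), ← Nat.cast_sum] at h0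
  rw [ZMod.natCast_eq_zero_iff] at h0
  refine absurd ?_ (Bool.eq_false_iff.1 hne)
  rw [Nat.beq_eq]
  exact Nat.mod_eq_zero_of_dvd h0

end

theorem sq_cases {a : ℤ} (h : a * a ≤ 8) : a = -2 ∨ a = -1 ∨ a = 0 ∨ a = 1 ∨ a = 2 := by
  have h1 : -2 ≤ a := by nlinarith
  have h2 : a ≤ 2 := by nlinarith
  omega

theorem resA_of {x : RuVec} {i : ℕ} {v : ℤ} (h : (x (ofIdx i)).re = v) : resA x i = (v % 4).toNat := by
  rw [resA, h]

theorem resB_of {x : RuVec} {i : ℕ} {v : ℤ} (h : (x (ofIdx i)).im = v) : resB x i = (v % 4).toNat := by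
  rw [resB, h]

/-- A local view of a coordinate of a vector of small norm. -/
theorem local_view {x : RuVec} {i : ℕ} (h : nn x i ≤ 8) :
    ∃ a b : Fin 5, resA x i = ([2, 3, 0, 1, 2] : List ℕ).getD a 0 ∧ resB x i = ([2, 3, 0, 1, 2] : List ℕ).getD b 0 ∧
      nn x i = ((([4, 1, 0, 1, 4] : List ℕ).getD a 0 + ([4, 1, 0, 1, 4] : List ℕ).getD b 0 : ℕ) : ℤ) := by
  have key : ∀ a : ℤ, a * a ≤ 8 → ∃ k : Fin 5, (a % 4).toNat = ([2, 3, 0, 1, 2] : List ℕ).getD k 0 ∧
      a * a = ((([4, 1, 0, 1, 4] : List ℕ).getD k 0 : ℕ) : ℤ) := fun a ha => by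
    rcases sq_cases ha with rfl | rfl | rfl | rfl | rfl
    exacts [⟨0, rfl, rfl⟩, ⟨1, rfl, rfl⟩, ⟨2, rfl, rfl⟩, ⟨3, rfl, rfl⟩, ⟨4, rfl, rfl⟩]
  have h1 := mul_self_nonneg (x (ofIdx i)).re
  have h2 := mul_self_nonneg (x (ofIdx i)).im
  have h' : (x (ofIdx i)).re * (x (ofIdx i)).re + (x (ofIdx i)).im * (x (ofIdx i)).im ≤ 8 := h
  obtain ⟨a, ha1, ha2⟩ := key _ (show (x (ofIdx i)).re * (x (ofIdx i)).re ≤ 8 by linarith)
  obtain ⟨b, hb1, hb2⟩ := key _ (show (x (ofIdx i)).im * (x (ofIdx i)).im ≤ 8 by linarith)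
  exact ⟨a, b, ha1, hb1, by rw [Nat.cast_add, ← ha2, ← hb2]; rfl⟩

set_option synthInstance.maxSize 20000 in
set_option synthInstance.maxHeartbeats 200000 in
theorem coord_facts : ∀ a b : Fin 5,
    let r := ([2, 3, 0, 1, 2] : List ℕ)
    let q := ([4, 1, 0, 1, 4] : List ℕ)
    let A := r.getD a 0
    let B := r.getD b 0
    let n := q.getD a 0 + q.getD b 0
    (bitA A B = true → 1 ≤ n ∧ (n = 1 → (A, B) ∈ candA)) ∧
    (bitA A B = false → domB A B = true ∧ (bitB A B = true → 2 ≤ n ∧ (n = 2 → (A, B) ∈ candB)) ∧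
      (bitB A B = false → domC A B = true ∧ (bitC A B = true → 4 ≤ n) ∧
        (bitC A B = false → (n = 0 ∨ n = 8) ∧ (n = 8 → A = 2 ∧ B = 2)))) ∧
    (n = 0 → A = 0 ∧ B = 0) := by
  dsimp only
  decide +kernel

theorem exact_sum {f g : ℕ → ℤ} (hle : ∀ i, i < 28 → g i ≤ f i)
    (heq : ∑ i ∈ Finset.range 28, f i ≤ ∑ i ∈ Finset.range 28, g i) : ∀ i, i < 28 → f i = g i := by
  intro i hi
  have h := Finset.single_le_sum (f := fun j => f j - g j) (fun j hj => sub_nonneg.2 (hle j (Finset.mem_range.1 hj)))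
    (Finset.mem_range.2 hi)
  rw [Finset.sum_sub_distrib] at h
  have := hle i hi
  linarith

theorem wt_bound {x : RuVec} {β : ℕ → Bool} {c : ℕ} (hsum : ∑ i ∈ Finset.range 28, nn x i = 8)
    (hle : ∀ i, i < 28 → β i = true → (c : ℤ) ≤ nn x i) :
    c * wt ((List.range 28).map β) ≤ 8 := by
  rw [wt_eq, Finset.mul_sum]
  have h : ((∑ i ∈ Finset.range 28, c * if β i then 1 else 0 : ℕ) : ℤ) ≤ ∑ i ∈ Finset.range 28, nn x i := by
    rw [Nat.cast_sum]
    refine Finset.sum_le_sum fun i hi => ?_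
    cases hb : β i
    · simp [nn_nonneg]
    · simpa [hb] using hle i (Finset.mem_range.1 hi) hb
  rw [hsum] at h
  exact_mod_cast h

theorem word_exact {x : RuVec} {β : ℕ → Bool} {c : ℕ} (hsum : ∑ i ∈ Finset.range 28, nn x i = 8)
    (hle : ∀ i, i < 28 → β i = true → (c : ℤ) ≤ nn x i) {k : ℕ}
    (hwt : wt ((List.range 28).map β) = k) (hk : c * k = 8) :
    ∀ i, i < 28 → nn x i = if β i then (c : ℤ) else 0 := by
  refine exact_sum (f := nn x) (g := fun i => if β i then (c : ℤ) else 0) (fun i hi => ?_) ?_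
  · cases hb : β i
    · simpa [hb] using nn_nonneg x i
    · simpa [hb] using hle i hi hb
  · rw [hsum]
    refine le_of_eq ?_
    have e : ∀ i, (if β i then (c : ℤ) else 0) = ((c * if β i then 1 else 0 : ℕ) : ℤ) := fun i => by
      cases β i <;> simp
    simp only [e]
    rw [← Nat.cast_sum, ← Finset.mul_sum, ← wt_eq, hwt, hk]
    rfl

theorem words_weight :
    (wordsA.all fun e => Nat.beq (wt e.1) 8) = true ∧ (wordsB.all fun e => Nat.beq (wt e.1) 4) = true := by
  decide +kernel

theorem no_norm_eight {x : RuVec} (hx : red x ∈ span) : ruNorm x ≠ 8 := by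
  intro hN
  rw [norm_sum] at hN
  have hle8 : ∀ i, i < 28 → nn x i ≤ 8 := fun i hi =>
    hN ▸ Finset.single_le_sum (fun j _ => nn_nonneg x j) (Finset.mem_range.2 hi)
  choose ca cb hA hB hn using fun i (hi : i < 28) => local_view (hle8 i hi)
  have fct := fun i (hi : i < 28) => coord_facts (ca i hi) (cb i hi)
  simp only [← hA, ← hB] at fct
  -- the first layer
  let β := fun i => bitA (resA x i) (resB x i)
  have hge1 : ∀ i, i < 28 → β i = true → ((1 : ℕ) : ℤ) ≤ nn x i := fun i hi hb => by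
    rw [hn i hi]; exact_mod_cast ((fct i hi).1 hb).1
  have hwt1 := wt_bound hN hge1
  rcases dfs_spec β (par_check hx parA_ok fun _ _ => rfl) (w := 8) (by omega) 28 0 rfl dfsA_ok with h0 | hgood
  swap
  · obtain ⟨e, he, heq⟩ := List.mem_map.1 hgood
    have hw := words_weight.1
    simp only [List.all_eq_true] at hw
    have hwt : wt ((List.range 28).map β) = 8 := heq ▸ Nat.eq_of_beq_eq_true (hw e he)
    have hex := word_exact hN hge1 hwt (by norm_num)
    refine word_false hx wordsA_ok hgood (fun i hi hb => ?_) fun i hi hb => ?_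
    · refine ((fct i hi).1 hb).2 ?_
      have h := hex i hi
      rw [hn i hi, if_pos hb] at h
      exact_mod_cast h
    · refine (fct i hi).2.2 ?_
      have h := hex i hi
      rw [hn i hi, hb, if_neg Bool.false_ne_true] at h
      exact_mod_cast h
  -- the second layer
  let γ := fun i => bitB (resA x i) (resB x i)
  have hdomB : ∀ i, i < 28 → domB (resA x i) (resB x i) = true := fun i hi => ((fct i hi).2.1 (h0 i hi)).1
  have hge2 : ∀ i, i < 28 → γ i = true → ((2 : ℕ) : ℤ) ≤ nn x i := fun i hi hb => by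
    rw [hn i hi]; exact_mod_cast (((fct i hi).2.1 (h0 i hi)).2.1 hb).1
  have hwt2 := wt_bound hN hge2
  rcases dfs_spec γ (par_check hx parB_ok hdomB) (w := 4) (by omega) 28 0 rfl dfsB_ok with g0 | hgood
  swap
  · obtain ⟨e, he, heq⟩ := List.mem_map.1 hgood
    have hw := words_weight.2
    simp only [List.all_eq_true] at hw
    have hwt : wt ((List.range 28).map γ) = 4 := heq ▸ Nat.eq_of_beq_eq_true (hw e he)
    have hex := word_exact hN hge2 hwt (by norm_num)
    refine word_false hx wordsB_ok hgood (fun i hi hb => ?_) fun i hi hb => ?_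
    · refine (((fct i hi).2.1 (h0 i hi)).2.1 hb).2 ?_
      have h := hex i hi
      rw [hn i hi, if_pos hb] at h
      exact_mod_cast h
    · refine (fct i hi).2.2 ?_
      have h := hex i hi
      rw [hn i hi, hb, if_neg Bool.false_ne_true] at h
      exact_mod_cast h
  -- the third layer
  let δ := fun i => bitC (resA x i) (resB x i)
  have h3 := fun i (hi : i < 28) => ((fct i hi).2.1 (h0 i hi)).2.2 (g0 i hi)
  have hge3 : ∀ i, i < 28 → δ i = true → ((4 : ℕ) : ℤ) ≤ nn x i := fun i hi hb => by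
    rw [hn i hi]; exact_mod_cast (h3 i hi).2.1 hb
  have hwt3 := wt_bound hN hge3
  rcases dfs_spec δ (par_check hx parC_ok fun i hi => (h3 i hi).1) (w := 2) (by omega) 28 0 rfl dfsC_ok with d0 | hgood
  swap
  · simp at hgood
  have h08 : ∀ i, i < 28 → nn x i = 0 ∨ nn x i = 8 := fun i hi => by
    rw [hn i hi]
    exact ((h3 i hi).2.2 (d0 i hi)).1.imp (fun h => by exact_mod_cast h) fun h => by exact_mod_cast h
  obtain ⟨i₀, hi₀, hne⟩ : ∃ i, i ∈ Finset.range 28 ∧ nn x i ≠ 0 := by
    by_contra hno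
    push Not at hno
    rw [Finset.sum_eq_zero hno] at hN
    norm_num at hN
  have hi₀' : i₀ < 28 := Finset.mem_range.1 hi₀
  have h8 : nn x i₀ = 8 := (h08 i₀ hi₀').resolve_left hne
  have hrest : ∀ j, j < 28 → j ≠ i₀ → nn x j = 0 := fun j hj hji => by
    rw [← Finset.add_sum_erase _ _ hi₀, h8] at hN
    have := Finset.single_le_sum (f := nn x) (fun k _ => nn_nonneg x k)
      (Finset.mem_erase.2 ⟨hji, Finset.mem_range.2 hj⟩)
    have := nn_nonneg x j
    linarith
  have hp := points_ok
  simp only [Bool.and_eq_true, List.all_eq_true, List.mem_range, decide_eq_true_eq] at hp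
  obtain ⟨hs, hv⟩ := hp.2 i₀ hi₀'
  have hd := dual_zero hx hs
  rw [Finset.sum_eq_single i₀ (fun j hj hji => by
      have hz := (fct j (Finset.mem_range.1 hj)).2.2 (by
        have h := hrest j (Finset.mem_range.1 hj) hji
        rw [hn j (Finset.mem_range.1 hj)] at h
        exact_mod_cast h)
      rw [hz.1, hz.2]; simp) (fun h => absurd hi₀ h)] at hd
  have h22 := ((h3 i₀ hi₀').2.2 (d0 i₀ hi₀')).2 (by
    have h := h8
    rw [hn i₀ hi₀'] at h
    exact_mod_cast h)
  rw [h22.1, h22.2, mul_comm _ 2, mul_comm _ 2, Nat.eq_of_beq_eq_true hv] at hd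
  exact absurd hd (by decide)

theorem main : (∀ x ∈ ruLattice, (8 : ℤ) ∣ ruNorm x) ∧ (∀ x ∈ ruLattice, ruNorm x ≠ 8) ∧
    (∀ x ∈ ruLattice, x ≠ 0 → 16 ≤ ruNorm x) ∧ ∃ x ∈ ruLattice, ruNorm x = 16 := by
  refine ⟨fun x hx => (lattice_le hx).2, fun x hx => no_norm_eight (lattice_le hx).1, fun x hx h0 => ?_, ?_⟩
  · obtain ⟨h1, k, hk⟩ := lattice_le hx
    have h8 := no_norm_eight h1
    have hnn : 0 ≤ ruNorm x := norm_sum x ▸ Finset.sum_nonneg fun i _ => nn_nonneg x i
    have hne : ruNorm x ≠ 0 := fun hz => h0 (funext fun p => by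
      rw [norm_expand, Finset.sum_eq_zero_iff_of_nonneg fun q _ =>
        add_nonneg (mul_self_nonneg _) (mul_self_nonneg _)] at hz
      have := (add_eq_zero_iff_of_nonneg (mul_self_nonneg _) (mul_self_nonneg _)).1 (hz p (Finset.mem_univ _))
      exact Zsqrtd.ext (mul_self_eq_zero.1 this.1) (mul_self_eq_zero.1 this.2))
    omega
  · have hmem : ∀ t ∈ ruTable, t ∈ ruLattice := fun t ht => by
      rw [ruLattice, AddSubgroup.mem_sInf]
      exact fun L hL => hL.1 t ht
    exact ⟨_, hmem _ List.mem_cons_self, (table_mem List.mem_cons_self).2⟩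

end CfsgLib.Spor.RuLat
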