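import Cfsg.Prelude.Def_Spor_Ru
import Cfsg.Agent.Lib.Spor.RuLat.Data

/-!
The Rudvalis lattice modulo four.
-/

set_option autoImplicit false

namespace CfsgLib.Spor.RuLat

open Cfsg.Spor

/-- Coordinates modulo four. -/
abbrev V : Type := RuIdx → ZMod 4 × ZMod 4

/-- The number of a coordinate. -/
def flatIdx (p : RuIdx) : ℕ := 4 * p.1.1 + p.2.1

theorem flatIdx_lt (p : RuIdx) : flatIdx p < 28 := by
  have h1 := p.1.2; have h2 := p.2.2; simp only [flatIdx]; omega

/-- The coordinate of a number. -/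
def ofIdx (i : ℕ) : RuIdx := (Fin.ofNat 7 (i / 4), Fin.ofNat 4 i)

theorem ofIdx_flatIdx : ∀ p : RuIdx, ofIdx (flatIdx p) = p := by decide +kernel

theorem flatIdx_ofIdx : ∀ i : Fin 28, flatIdx (ofIdx i) = i := by decide +kernel

/-- A list of residues as a vector. -/
def toV (l : List ℕ) : V := fun p => ((l.getD (2 * flatIdx p) 0 : ℕ), (l.getD (2 * flatIdx p + 1) 0 : ℕ))

/-- Multiple of a list added to a list. -/
def addS (c : ℕ) : List ℕ → List ℕ → List ℕ
  | [], a => a
  | r, [] => r.map (c * ·)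
  | x :: r, y :: a => (c * x + y) :: addS c r a

theorem getD_addS (c : ℕ) : ∀ (r a : List ℕ) (k : ℕ), (addS c r a).getD k 0 = c * r.getD k 0 + a.getD k 0
  | [], a, k => by simp [addS]
  | x :: r, [], k => by
    simp only [addS, List.getD_eq_getElem?_getD, List.getElem?_map, List.getElem?_nil]
    cases (x :: r)[k]? <;> simp
  | x :: r, y :: a, 0 => by simp [addS]
  | x :: r, y :: a, k + 1 => by simpa [addS] using getD_addS c r a k

/-- A combination of lists. -/
def lin : List ℕ → List (List ℕ) → List ℕ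
  | c :: cs, r :: rs => addS c r (lin cs rs)
  | _, _ => []

/-- Entrywise equality modulo four. -/
def same (u v : List ℕ) : Bool := (List.range 56).all fun k => Nat.beq (u.getD k 0 % 4) (v.getD k 0 % 4)

/-- The span of the generators. -/
def span : AddSubgroup V := AddSubgroup.closure (toV '' {r | r ∈ rows})

theorem lin_mem : ∀ (cs : List ℕ) (rs : List (List ℕ)), (∀ r ∈ rs, r ∈ rows) → toV (lin cs rs) ∈ span
  | [], _, _ => by
    rw [lin, show toV [] = 0 from funext fun p => by simp [toV]]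
    · exact zero_mem _
    · intros; simp_all
  | _ :: _, [], _ => by
    rw [lin, show toV [] = 0 from funext fun p => by simp [toV]]
    · exact zero_mem _
    · intros; simp_all
  | c :: cs, r :: rs, h => by
    have e : toV (lin (c :: cs) (r :: rs)) = c • toV r + toV (lin cs rs) := by
      funext p
      refine Prod.ext ?_ ?_ <;>
        simp only [toV, lin, getD_addS, Pi.add_apply, Pi.smul_apply, Prod.fst_add, Prod.snd_add, Prod.smul_fst,
          Prod.smul_snd, nsmul_eq_mul, Nat.cast_add, Nat.cast_mul] <;> rfl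
    rw [e]
    exact add_mem (nsmul_mem (AddSubgroup.subset_closure (Set.mem_image_of_mem toV (h r List.mem_cons_self))) c)
      (lin_mem cs rs fun x hx => h x (List.mem_cons_of_mem _ hx))

theorem mem_of_same {u : List ℕ} {cs : List ℕ} (h : same (lin cs rows) u = true) : toV u ∈ span := by
  have e : toV u = toV (lin cs rows) := by
    simp only [same, List.all_eq_true, List.mem_range] at h
    funext p
    have hp := flatIdx_lt p
    refine Prod.ext ?_ ?_
    · exact (ZMod.natCast_eq_natCast_iff' _ _ 4).2 (Nat.eq_of_beq_eq_true (h (2 * flatIdx p) (by omega))).symm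
    · exact (ZMod.natCast_eq_natCast_iff' _ _ 4).2 (Nat.eq_of_beq_eq_true (h (2 * flatIdx p + 1) (by omega))).symm
  rw [e]
  exact lin_mem cs rows fun _ h => h

/-- Reduction of a vector. -/
def red : RuVec →+ V :=
  AddMonoidHom.mk' (fun v p => (((v p).re : ZMod 4), ((v p).im : ZMod 4))) fun a b => by
    funext p
    simp [Zsqrtd.re_add, Zsqrtd.im_add]

/-- The pairing. -/
def pair (u w : V) : ZMod 4 := ∑ p, ((u p).1 * (w p).1 + (u p).2 * (w p).2)

theorem pair_add_left (a b w : V) : pair (a + b) w = pair a w + pair b w := by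
  simp only [pair, ← Finset.sum_add_distrib]
  exact Finset.sum_congr rfl fun p _ => by simp; ring

theorem pair_comm (a b : V) : pair a b = pair b a := Finset.sum_congr rfl fun p _ => by ring

/-- Multiplication by i modulo four. -/
def mI : V →+ V := AddMonoidHom.mk' (fun w p => (-(w p).2, (w p).1)) fun a b => by
  funext p; simp; ring

/-- Right multiplication by j modulo four. -/
def mJ : V →+ V := AddMonoidHom.mk' (fun w p => match p.2 with
  | 0 => (-(w (p.1, 1)).2, (w (p.1, 1)).1)
  | 1 => (-(w (p.1, 0)).2, (w (p.1, 0)).1)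
  | 2 => w (p.1, 3)
  | 3 => -w (p.1, 2)) fun a b => by
  funext p; obtain ⟨n, t⟩ := p; fin_cases t <;> simp <;> ring

/-- Right multiplication by k modulo four. -/
def mK : V →+ V := AddMonoidHom.mk' (fun w p => match p.2 with
  | 0 => (-(w (p.1, 2)).2, (w (p.1, 2)).1)
  | 1 => -w (p.1, 3)
  | 2 => (-(w (p.1, 0)).2, (w (p.1, 0)).1)
  | 3 => w (p.1, 1)) fun a b => by
  funext p; obtain ⟨n, t⟩ := p; fin_cases t <;> simp <;> ring

/-- The sign change modulo four. -/
def mSign : V →+ V :=
  AddMonoidHom.mk' (fun w p => if p.1 = 0 ∨ p.1 = 3 ∨ p.1 = 5 ∨ p.1 = 6 then -w p else w p) fun a b => by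
    funext p; by_cases h : p.1 = 0 ∨ p.1 = 3 ∨ p.1 = 5 ∨ p.1 = 6 <;> simp [h] <;> abel

/-- The shift modulo four. -/
def mShift : V →+ V := AddMonoidHom.mk' (fun w p => w (p.1 + 1, p.2)) fun _ _ => rfl

theorem red_I (v : RuVec) : red (gI • v) = mI (red v) := by
  funext p; simp [red, mI, gI, Zsqrtd.re_mul, Zsqrtd.im_mul]

theorem red_J (v : RuVec) : red (ruRj v) = mJ (red v) := by
  funext p; obtain ⟨n, t⟩ := p
  fin_cases t <;> simp [red, mJ, ruRj, gI, Zsqrtd.re_mul, Zsqrtd.im_mul, Zsqrtd.re_neg, Zsqrtd.im_neg]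

theorem red_K (v : RuVec) : red (ruRk v) = mK (red v) := by
  funext p; obtain ⟨n, t⟩ := p
  fin_cases t <;> simp [red, mK, ruRk, gI, Zsqrtd.re_mul, Zsqrtd.im_mul, Zsqrtd.re_neg, Zsqrtd.im_neg]

theorem red_sign (v : RuVec) : red (ruSign v) = mSign (red v) := by
  funext p
  by_cases h : p.1 = 0 ∨ p.1 = 3 ∨ p.1 = 5 ∨ p.1 = 6 <;>
    simp [red, mSign, ruSign, h, Zsqrtd.re_neg, Zsqrtd.im_neg]

theorem red_shift (v : RuVec) : red (ruShift v) = mShift (red v) := rfl

theorem norm_expand (v : RuVec) : ruNorm v = ∑ p, ((v p).re * (v p).re + (v p).im * (v p).im) :=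
  Finset.sum_congr rfl fun p _ => by rw [Zsqrtd.norm_def]; ring

theorem norm_I (v : RuVec) : ruNorm (gI • v) = ruNorm v := by
  simp only [norm_expand]
  exact Finset.sum_congr rfl fun p _ => by simp [gI, Zsqrtd.re_mul, Zsqrtd.im_mul]; ring

theorem norm_J (v : RuVec) : ruNorm (ruRj v) = ruNorm v := by
  simp only [norm_expand, Fintype.sum_prod_type, Fin.sum_univ_four]
  exact Finset.sum_congr rfl fun n _ => by
    simp [ruRj, gI, Zsqrtd.re_mul, Zsqrtd.im_mul, Zsqrtd.re_neg, Zsqrtd.im_neg]; ring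

theorem norm_K (v : RuVec) : ruNorm (ruRk v) = ruNorm v := by
  simp only [norm_expand, Fintype.sum_prod_type, Fin.sum_univ_four]
  exact Finset.sum_congr rfl fun n _ => by
    simp [ruRk, gI, Zsqrtd.re_mul, Zsqrtd.im_mul, Zsqrtd.re_neg, Zsqrtd.im_neg]; ring

theorem norm_sign (v : RuVec) : ruNorm (ruSign v) = ruNorm v := by
  simp only [norm_expand]
  exact Finset.sum_congr rfl fun p _ => by
    by_cases h : p.1 = 0 ∨ p.1 = 3 ∨ p.1 = 5 ∨ p.1 = 6 <;> simp [ruSign, h, Zsqrtd.re_neg, Zsqrtd.im_neg]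

theorem norm_shift (v : RuVec) : ruNorm (ruShift v) = ruNorm v := by
  simp only [norm_expand, Fintype.sum_prod_type]
  exact Fintype.sum_equiv (Equiv.addRight (1 : Fin 7)) _
    (fun n => ∑ t : Fin 4, ((v (n, t)).re * (v (n, t)).re + (v (n, t)).im * (v (n, t)).im)) fun n => rfl

end CfsgLib.Spor.RuLat
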